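import Mathlib
import Cfsg.Agent.Linear.Simple

/-!
Two conjugate regular unipotent elements generating `SL_3(F)`: the matrices.

`gm` is an involution and `um = wm * gm` is regular unipotent, where `wm` is a Jordan matrix with
eigenvalues `l, l, l⁻²`. It suffices that `um` and `gm` generate.
-/

set_option autoImplicit false

namespace Cfsg.Agent.Arith.SL3Gen

open Matrix Cfsg.Agent.Linear
open scoped commutatorElement

variable {F : Type*} [Field F]

local notation "S3" => Matrix.SpecialLinearGroup (Fin 3) F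
local notation "M3" => Matrix (Fin 3) (Fin 3) F

/-- admissible parameter -/
structure Good (l : F) : Prop where
  ne0 : l ≠ 0
  cube : 1 - l ^ 3 ≠ 0
  addOne : 1 + l ≠ 0
  sqAdd : 1 + l ^ 2 ≠ 0

/-- the parameter `S` -/
def pS (l : F) : F := (1 + l ^ 2) ^ 3 / (1 - l ^ 3) ^ 2

/-- the parameter `P` -/
def pP (l : F) : F := -(l * (1 + l) ^ 3) / (1 - l ^ 3)

theorem pS_ne {l : F} (h : Good l) : pS l ≠ 0 :=
  div_ne_zero (pow_ne_zero _ h.sqAdd) (pow_ne_zero _ h.cube)

theorem pP_ne {l : F} (h : Good l) : pP l ≠ 0 :=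
  div_ne_zero (neg_ne_zero.2 (mul_ne_zero h.ne0 (pow_ne_zero _ h.addOne))) h.cube

/-- the involution -/
def gMat (l : F) : M3 := !![1 - pS l, 0, 2 - pS l; pP l, -1, pP l; pS l, 0, pS l - 1]

/-- the Jordan matrix -/
def wMat (l : F) : M3 := !![l, 1, 0; 0, l, 0; 0, 0, (l ^ 2)⁻¹]

theorem det_gMat (l : F) : (gMat l).det = 1 := by
  simp [gMat, Matrix.det_fin_three]; ring

theorem det_wMat {l : F} (h : l ≠ 0) : (wMat l).det = 1 := by
  simp [wMat, Matrix.det_fin_three]; field_simp

theorem gMat_sq (l : F) : gMat l * gMat l = 1 := by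
  rw [gMat, Matrix.mul_fin_three, Matrix.one_fin_three]
  ext i j; fin_cases i <;> fin_cases j <;> simp <;> ring

/-- the involution in the group -/
def gm (l : F) : S3 := ⟨gMat l, det_gMat l⟩

/-- the Jordan element in the group -/
def wm {l : F} (h : Good l) : S3 := ⟨wMat l, det_wMat h.ne0⟩

/-- the regular unipotent element -/
def um {l : F} (h : Good l) : S3 := wm h * gm l

theorem gm_sq (l : F) : (gm l : S3) * gm l = 1 := Subtype.ext (gMat_sq l)

theorem trace_rel {l : F} (h : Good l) :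
    pP l + ((l ^ 2)⁻¹ - l) * pS l - (l ^ 2)⁻¹ = 3 ∧
      pS l * (l ^ 4 - l) - pP l - l ^ 4 = 3 * l ^ 2 := by
  obtain ⟨h0, h1, -, -⟩ := h
  constructor <;> (simp only [pP, pS]; field_simp; ring)

theorem cayley (A : M3) (ht : A.trace = 3) (hm : A 0 0 * A 1 1 - A 0 1 * A 1 0 + (A 0 0 * A 2 2 - A 0 2 * A 2 0) +
      (A 1 1 * A 2 2 - A 1 2 * A 2 1) = 3) (hd : A.det = 1) : (A - 1) * (A - 1) * (A - 1) = 0 := by
  rw [Matrix.trace_fin_three] at ht
  rw [Matrix.det_fin_three] at hd
  have h1 : A * A * A - (A 0 0 + A 1 1 + A 2 2) • (A * A) +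
      (A 0 0 * A 1 1 - A 0 1 * A 1 0 + (A 0 0 * A 2 2 - A 0 2 * A 2 0) + (A 1 1 * A 2 2 - A 1 2 * A 2 1)) • A -
      (A 0 0 * A 1 1 * A 2 2 - A 0 0 * A 1 2 * A 2 1 - A 0 1 * A 1 0 * A 2 2 + A 0 1 * A 1 2 * A 2 0 +
        A 0 2 * A 1 0 * A 2 1 - A 0 2 * A 1 1 * A 2 0) • (1 : M3) = 0 := by
    ext i j; fin_cases i <;> fin_cases j <;> simp [Matrix.mul_apply, Fin.sum_univ_three] <;> ring
  rw [ht, hm, hd, one_smul] at h1
  rw [← h1]
  simp only [ofNat_smul_eq_nsmul]
  noncomm_ring

theorem um_regular {l : F} (h : Good l) :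
    IsNilpotent ((um h : M3) - 1) ∧ ((um h : M3) - 1) ^ (3 - 1) ≠ 0 := by
  have e : (um h : M3) = !![l * (1 - pS l) + pP l, -1, l * (2 - pS l) + pP l;
      l * pP l, -l, l * pP l; (l ^ 2)⁻¹ * pS l, 0, (l ^ 2)⁻¹ * (pS l - 1)] := by
    show wMat l * gMat l = _
    rw [wMat, gMat, Matrix.mul_fin_three]
    ext i j; fin_cases i <;> fin_cases j <;> simp
  obtain ⟨r1, r2⟩ := trace_rel h
  have h0 := h.ne0
  constructor
  · refine ⟨3, ?_⟩
    rw [pow_succ, pow_two]
    refine cayley _ ?_ ?_ (um h).2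
    · rw [e, Matrix.trace_fin_three]; simp; linear_combination r1
    · rw [e]; simp; field_simp; linear_combination r2
  · intro h2
    have h3 := congrFun (congrFun h2 1) 0
    rw [e, pow_two] at h3
    simp [Matrix.mul_apply, Fin.sum_univ_three] at h3
    have h4 : l * pP l * (1 + (l ^ 2)⁻¹) = 0 := by linear_combination h3 - l * pP l * r1
    rcases mul_eq_zero.1 h4 with h5 | h5
    · exact mul_ne_zero h0 (pP_ne h) h5
    · refine h.sqAdd ?_
      field_simp at h5
      linear_combination h5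

/-- the transvections -/
abbrev E (i j : Fin 3) (hij : i ≠ j) (t : F) : S3 := Matrix.SpecialLinearGroup.transvection hij t

/-- `1 + t e₀ e₁*` -/
abbrev x01 (t : F) : S3 := E 0 1 (by decide) t
/-- `1 + t e₁ e₀*` -/
abbrev x10 (t : F) : S3 := E 1 0 (by decide) t

variable [Fintype F]

theorem exists_of_top {l : F} (h : Good l)
    (htop : Subgroup.closure {um h, gm l} = (⊤ : Subgroup S3)) :
    ∃ u g : S3, IsNilpotent ((u : M3) - 1) ∧ ((u : M3) - 1) ^ (3 - 1) ≠ 0 ∧
      Subgroup.closure ({u, g * u * g⁻¹} : Set S3) = ⊤ := by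
  obtain ⟨hn, hr⟩ := um_regular h
  refine ⟨um h, gm l, hn, hr, ?_⟩
  set u := um h with hu
  set g : S3 := gm l with hg
  have hginv : g⁻¹ = g := inv_eq_of_mul_eq_one_right (gm_sq l)
  set H := Subgroup.closure ({u, g * u * g⁻¹} : Set S3) with hH
  have hm : ∀ a ∈ ({u, g} : Set S3), ∀ x ∈ H, a * x * a⁻¹ ∈ H := by
    intro a ha x hx
    have h1 : H ≤ H.comap (MulAut.conj a).toMonoidHom := by
      refine (Subgroup.closure_le _).2 ?_
      rintro y hy
      show a * y * a⁻¹ ∈ H
      rcases ha with ha | ha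
      · rw [ha]
        exact H.mul_mem (H.mul_mem (Subgroup.subset_closure (by simp)) (Subgroup.subset_closure hy))
          (H.inv_mem (Subgroup.subset_closure (by simp)))
      · rw [Set.mem_singleton_iff] at ha
        rw [ha]
        rcases hy with hy | hy
        · rw [hy]; exact Subgroup.subset_closure (by simp)
        · rw [Set.mem_singleton_iff] at hy
          refine Subgroup.subset_closure (Or.inl ?_)
          rw [hy, hginv]
          calc g * (g * u * g) * g = (g * g) * u * (g * g) := by group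
            _ = u := by rw [gm_sq, one_mul, mul_one]
    exact h1 hx
  have hN : H.Normal := by
    refine ⟨fun x hx a => ?_⟩
    have : a ∈ Subgroup.closure ({u, g} : Set S3) := htop ▸ Subgroup.mem_top a
    induction this using Subgroup.closure_induction generalizing x with
    | mem a ha => exact hm a ha x hx
    | one => simpa using hx
    | mul a b _ _ iha ihb =>
      have := iha _ (ihb x hx)
      simpa [mul_assoc] using this
    | inv a _ iha =>
      have key : ∀ k : ℕ, ∀ y ∈ H, a ^ k * y * (a ^ k)⁻¹ ∈ H := by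
        intro k
        induction k with
        | zero => intro y hy; simpa using hy
        | succ k ih =>
          intro y hy
          have := iha _ (ih y hy)
          simpa [pow_succ', mul_assoc] using this
      obtain ⟨k, hk⟩ : ∃ k : ℕ, a⁻¹ = a ^ k :=
        ⟨orderOf a - 1, by rw [inv_eq_iff_mul_eq_one, ← pow_succ', Nat.sub_add_cancel (orderOf_pos a), pow_orderOf_eq_one]⟩
      rw [hk]
      exact key k x hx
  have hcard : 3 ≤ Fintype.card (Fin 3) ∨ ∃ a : F, a ≠ 0 ∧ a ^ 2 ≠ 1 := Or.inl (by simp)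
  haveI := isSimpleGroup_PSL (ι := Fin 3) (F := F) hcard
  let π : S3 →* Matrix.ProjectiveSpecialLinearGroup (Fin 3) F := QuotientGroup.mk' (Subgroup.center S3)
  have hne : H.map π ≠ ⊥ := by
    intro hb
    rw [Subgroup.map_eq_bot_iff, QuotientGroup.ker_mk'] at hb
    have hc : u ∈ Subgroup.center S3 := hb (Subgroup.subset_closure (by simp))
    obtain ⟨r, -, hr'⟩ := Matrix.SpecialLinearGroup.mem_center_iff.1 hc
    obtain ⟨k, hk⟩ := hn
    apply hr
    rw [← hr'] at hk ⊢
    have h1 : (r - 1) ^ k = 0 := by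
      have := congrFun (congrFun hk 0) 0
      rwa [← map_one (Matrix.scalar (Fin 3)), ← map_sub, ← map_pow, Matrix.scalar_apply,
        Matrix.diagonal_apply_eq] at this
    rw [sub_eq_zero.1 (eq_zero_of_pow_eq_zero h1), map_one, sub_self, zero_pow two_ne_zero]
  have hmap : H.map π = ⊤ :=
    ((hN.map π (QuotientGroup.mk'_surjective _)).eq_bot_or_eq_top).resolve_left hne
  rw [eq_top_iff, ← commutator_SL_eq_top hcard, commutator_def, Subgroup.commutator_le]
  intro a _ b _
  have hex : ∀ x : S3, ∃ y ∈ H, ∃ z ∈ Subgroup.center S3, x = y * z := by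
    intro x
    obtain ⟨y, hy, e⟩ : π x ∈ H.map π := hmap ▸ Subgroup.mem_top _
    obtain ⟨z, hz, ez⟩ := (QuotientGroup.mk'_eq_mk' _).1 e
    exact ⟨y, hy, z, hz, ez.symm⟩
  obtain ⟨a', ha', z, hz, rfl⟩ := hex a
  obtain ⟨b', hb', z', hz', rfl⟩ := hex b
  rw [Subgroup.mem_center_iff] at hz hz'
  have : ⁅a' * z, b' * z'⁆ = ⁅a', b'⁆ := by
    rw [commutatorElement_def, commutatorElement_def]
    calc a' * z * (b' * z') * (a' * z)⁻¹ * (b' * z')⁻¹
        = a' * (z * b') * (z' * z⁻¹) * a'⁻¹ * z'⁻¹ * b'⁻¹ := by group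
      _ = a' * (b' * z) * (z⁻¹ * z') * a'⁻¹ * z'⁻¹ * b'⁻¹ := by
        rw [← hz b', ← hz' z⁻¹]
      _ = a' * b' * (z' * a'⁻¹) * z'⁻¹ * b'⁻¹ := by group
      _ = a' * b' * (a'⁻¹ * z') * z'⁻¹ * b'⁻¹ := by rw [← hz' a'⁻¹]
      _ = _ := by group
  rw [this, commutatorElement_def]
  exact H.mul_mem (H.mul_mem (H.mul_mem ha' hb') (H.inv_mem ha')) (H.inv_mem hb')

end Cfsg.Agent.Arith.SL3Gen
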