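import Mathlib
import Cfsg.Agent.Arith.SL3Gen.Basic
import Cfsg.Agent.Linear.Dickson.Scaled

/-!
Two conjugate regular unipotent elements generating `SL_3(F)`: reduction to a subgroup of `SL_2(F)`.
-/

set_option autoImplicit false
set_option linter.unusedSectionVars false

namespace Cfsg.Agent.Arith.SL3Gen

open Matrix Cfsg.Agent.Linear
open scoped commutatorElement

variable {F : Type*} [Field F] [Fintype F] {l : F} (h : Good l)

local notation "S3" => Matrix.SpecialLinearGroup (Fin 3) F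
local notation "M3" => Matrix (Fin 3) (Fin 3) F
local notation "S2" => Matrix.SpecialLinearGroup (Fin 2) F

/-- the generated group -/
def Gen : Subgroup S3 := Subgroup.closure {um h, gm l}

theorem E_coe (i j : Fin 3) (hij : i ≠ j) (t : F) : (E i j hij t : M3) = Matrix.transvection i j t := rfl

theorem x01_coe (t : F) : (x01 t : M3) = !![1, t, 0; 0, 1, 0; 0, 0, 1] := by
  rw [E_coe]; ext i j; fin_cases i <;> fin_cases j <;> simp [Matrix.transvection]

theorem x10_coe (t : F) : (x10 t : M3) = !![1, 0, 0; t, 1, 0; 0, 0, 1] := by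
  rw [E_coe]; ext i j; fin_cases i <;> fin_cases j <;> simp [Matrix.transvection]

theorem E02_coe (t : F) : (E 0 2 (by decide) t : M3) = !![1, 0, t; 0, 1, 0; 0, 0, 1] := by
  rw [E_coe]; ext i j; fin_cases i <;> fin_cases j <;> simp [Matrix.transvection]

theorem E12_coe (t : F) : (E 1 2 (by decide) t : M3) = !![1, 0, 0; 0, 1, t; 0, 0, 1] := by
  rw [E_coe]; ext i j; fin_cases i <;> fin_cases j <;> simp [Matrix.transvection]

theorem E21_coe (t : F) : (E 2 1 (by decide) t : M3) = !![1, 0, 0; 0, 1, 0; 0, t, 1] := by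
  rw [E_coe]; ext i j; fin_cases i <;> fin_cases j <;> simp [Matrix.transvection]

theorem x01_pow (t : F) (n : ℕ) : (x01 t : S3) ^ n = x01 (n * t) := by
  induction n with
  | zero => refine Subtype.ext ?_; rw [x01_coe, pow_zero, Matrix.SpecialLinearGroup.coe_one, Matrix.one_fin_three]; simp
  | succ n ih =>
    rw [pow_succ, ih]
    refine Subtype.ext ?_
    rw [Matrix.SpecialLinearGroup.coe_mul, x01_coe, x01_coe, x01_coe, Matrix.mul_fin_three]
    ext i j; fin_cases i <;> fin_cases j <;> simp; ring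

theorem gm_mem : gm l ∈ Gen h := Subgroup.subset_closure (by simp)

theorem wm_mem : wm h ∈ Gen h := by
  have e : wm h = um h * gm l := by rw [um, mul_assoc, gm_sq, mul_one]
  rw [e]
  exact mul_mem (Subgroup.subset_closure (by simp)) (gm_mem h)

theorem wm_pow (k : ℕ) : ((wm h ^ k : S3) : M3) =
    !![l ^ k, k * l ^ k / l, 0; 0, l ^ k, 0; 0, 0, ((l ^ 2)⁻¹) ^ k] := by
  induction k with
  | zero => rw [pow_zero, Matrix.SpecialLinearGroup.coe_one, Matrix.one_fin_three]; simp
  | succ k ih =>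
    rw [pow_succ, Matrix.SpecialLinearGroup.coe_mul, ih]
    show _ * wMat l = _
    rw [wMat, Matrix.mul_fin_three]
    have := h.ne0
    ext i j; fin_cases i <;> fin_cases j <;> simp [pow_succ]
    field_simp; ring

theorem x01_mem : x01 l⁻¹ ∈ Gen h := by
  classical
  set L := Units.mk0 l h.ne0
  set r := orderOf L
  have hr : (l : F) ^ r = 1 := by
    have := congrArg Units.val (pow_orderOf_eq_one L)
    rwa [Units.val_pow_eq_pow_val, Units.val_one] at this
  have e : wm h ^ r = x01 ((r : F) * l⁻¹) := by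
    refine Subtype.ext ?_
    rw [wm_pow, x01_coe, hr, inv_pow, ← pow_mul, mul_comm 2 r, pow_mul, hr]
    simp [div_eq_mul_inv]
  have hm := (Gen h).pow_mem (wm_mem h) r
  rw [e] at hm
  obtain ⟨c, hc⟩ : r ∣ Fintype.card Fˣ := orderOf_dvd_card
  rw [Fintype.card_units] at hc
  have hq : ((Fintype.card F - 1 : ℕ) : F) = -1 := by
    rw [Nat.cast_sub Fintype.card_pos, Nat.cast_card_eq_zero, Nat.cast_one, zero_sub]
  have := (Gen h).pow_mem hm (c * (Fintype.card F - 1))
  rw [x01_pow, ← mul_assoc, Nat.cast_mul, mul_comm _ (r : F), ← mul_assoc, ← Nat.cast_mul, ← hc, hq] at this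
  simpa using this

theorem dm_mem : ∃ y ∈ Gen h, (y : M3) = !![l, 0, 0; 0, l, 0; 0, 0, (l ^ 2)⁻¹] := by
  refine ⟨wm h * (x01 l⁻¹)⁻¹, mul_mem (wm_mem h) (inv_mem (x01_mem h)), ?_⟩
  rw [Matrix.SpecialLinearGroup.transvection_inv, Matrix.SpecialLinearGroup.coe_mul, x01_coe]
  show wMat l * _ = _
  rw [wMat, Matrix.mul_fin_three]
  have := h.ne0
  ext i j; fin_cases i <;> fin_cases j <;> simp [this]

/-- the change of basis -/
def cMat (l : F) : M3 := !![1, 1 - pS l, 1; 0, pP l, 0; 0, pS l, -1]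

include h in
theorem cMat_isUnit : IsUnit (cMat l) := by
  rw [Matrix.isUnit_iff_isUnit_det, isUnit_iff_ne_zero]
  simpa [cMat, Matrix.det_fin_three] using pP_ne h

/-- the generated group in the new basis -/
def GenC : Subgroup S3 where
  carrier := {x | ∃ y ∈ Gen h, (y : M3) * cMat l = cMat l * x}
  one_mem' := ⟨1, one_mem _, by simp⟩
  mul_mem' := by
    rintro a b ⟨y, hy, e⟩ ⟨z, hz, e'⟩
    refine ⟨y * z, mul_mem hy hz, ?_⟩
    rw [Matrix.SpecialLinearGroup.coe_mul, Matrix.SpecialLinearGroup.coe_mul, mul_assoc, e', ← mul_assoc, e,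
      mul_assoc]
  inv_mem' := by
    rintro a ⟨y, hy, e⟩
    refine ⟨y⁻¹, inv_mem hy, ?_⟩
    have h1 : ((y⁻¹ : S3) : M3) * ((y : M3) * cMat l) * ((a⁻¹ : S3) : M3) =
        ((y⁻¹ : S3) : M3) * (cMat l * a) * ((a⁻¹ : S3) : M3) := by rw [e]
    rw [← mul_assoc ((y⁻¹ : S3) : M3), ← Matrix.SpecialLinearGroup.coe_mul, inv_mul_cancel,
      Matrix.SpecialLinearGroup.coe_one, one_mul, mul_assoc ((y⁻¹ : S3) : M3), mul_assoc (cMat l),
      ← Matrix.SpecialLinearGroup.coe_mul, mul_inv_cancel, Matrix.SpecialLinearGroup.coe_one, mul_one] at h1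
    exact h1.symm

theorem gen_eq_top (htop : GenC h = ⊤) : Gen h = ⊤ := by
  rw [eq_top_iff]
  intro y _
  obtain ⟨C, hC⟩ := cMat_isUnit h
  let x : S3 := ⟨((C⁻¹ : M3ˣ) : M3) * y * C, by
    rw [Matrix.det_mul, Matrix.det_mul, y.2, mul_one, ← Matrix.det_mul, Units.inv_mul, Matrix.det_one]⟩
  obtain ⟨y', hy', e⟩ : x ∈ GenC h := htop ▸ Subgroup.mem_top x
  have : (y' : M3) * cMat l = (y : M3) * cMat l := by
    rw [e]
    show cMat l * (((C⁻¹ : M3ˣ) : M3) * y * C) = _
    rw [← hC, mul_assoc _ (y : M3), ← mul_assoc, Units.mul_inv, one_mul]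
  have := (cMat_isUnit h).mul_right_cancel this
  exact Subtype.ext this ▸ hy'

/-- the involution in the new basis -/
def gp : S3 := ⟨!![0, 1, 0; 1, 0, 0; 0, 0, -1], by simp [Matrix.det_fin_three]⟩

theorem gp_mem : gp ∈ GenC h := by
  refine ⟨gm l, gm_mem h, ?_⟩
  show gMat l * cMat l = cMat l * !![0, 1, 0; 1, 0, 0; 0, 0, -1]
  rw [gMat, cMat, Matrix.mul_fin_three, Matrix.mul_fin_three]
  ext i j; fin_cases i <;> fin_cases j <;> simp <;> ring

theorem x01P_mem : x01 (pP l / l) ∈ GenC h := by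
  refine ⟨x01 l⁻¹, x01_mem h, ?_⟩
  rw [x01_coe, x01_coe, cMat, Matrix.mul_fin_three, Matrix.mul_fin_three]
  ext i j; fin_cases i <;> fin_cases j <;> simp [div_eq_mul_inv] <;> ring

theorem gp_conj (t : F) : gp * x01 t * gp = x10 t ∧ gp * x10 t * gp = x01 t := by
  constructor <;> refine Subtype.ext ?_
  all_goals
    rw [Matrix.SpecialLinearGroup.coe_mul, Matrix.SpecialLinearGroup.coe_mul, x01_coe, x10_coe]
    show !![0, 1, 0; 1, 0, 0; 0, 0, -1] * _ * !![0, 1, 0; 1, 0, 0; 0, 0, -1] = _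
    rw [Matrix.mul_fin_three, Matrix.mul_fin_three]
    ext i j; fin_cases i <;> fin_cases j <;> simp

theorem x10P_mem : x10 (pP l / l) ∈ GenC h := by
  rw [← (gp_conj _).1]
  exact mul_mem (mul_mem (gp_mem h) (x01P_mem h)) (gp_mem h)

/-- `ν - 1` -/
def pd (l : F) : F := (l ^ 3)⁻¹ - 1

/-- the homology in the new basis -/
def dMat (l : F) : M3 :=
  !![l, l * pd l * pS l, -(l * pd l); 0, l, 0; 0, -(l * pd l * pS l), l * (l ^ 3)⁻¹]

theorem dp_mem : ∃ x ∈ GenC h, (x : M3) = dMat l := by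
  have := h.ne0
  refine ⟨⟨dMat l, by simp [dMat, Matrix.det_fin_three]; field_simp⟩, ?_, rfl⟩
  obtain ⟨y, hy, e⟩ := dm_mem h
  refine ⟨y, hy, ?_⟩
  rw [e]
  show _ = cMat l * dMat l
  rw [cMat, dMat, Matrix.mul_fin_three, Matrix.mul_fin_three]
  ext i j; fin_cases i <;> fin_cases j <;> simp [pd] <;> field_simp <;> ring

include h in
theorem pd_ne : pd l ≠ 0 := by
  intro h0
  refine h.cube ?_
  have := h.ne0
  simp only [pd] at h0
  field_simp at h0
  linear_combination h0

section Identities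

variable (l' S δ m n k b t s : F)

theorem conj_identity (hb : b * m = 1) (hk : k = -(δ * S)) (hmk : m + k * n = 0) (hn : n * (1 + δ) = δ) :
    !![1, 0, 0; b, 1, 0; 0, 0, 1] * !![1, -(δ * S), 0; 0, 1, 0; 0, 0, 1] *
      !![l', l' * δ * S, -(l' * δ); 0, l', 0; 0, -(l' * δ * S), l' * (1 + δ)] * !![1, 0, 0; t, 1, 0; 0, 0, 1] =
    !![1, 0, 0; 0, 1 + t * m, t * n; 0, t * k * m, 1 + t * k * n] * (!![1, 0, 0; b, 1, 0; 0, 0, 1] *
      !![1, -(δ * S), 0; 0, 1, 0; 0, 0, 1] *
      !![l', l' * δ * S, -(l' * δ); 0, l', 0; 0, -(l' * δ * S), l' * (1 + δ)]) := by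
  subst hk
  simp only [Matrix.mul_fin_three]
  ext i j; fin_cases i <;> fin_cases j <;> simp <;> grind

theorem comm_identity (hmk : m + k * n = 0) :
    !![1, 0, 0; 0, 1 + 1 * m, 1 * n; 0, 1 * k * m, 1 + 1 * k * n] * !![1, s, 0; 0, 1, 0; 0, 0, 1] =
      !![1, s * (1 - m), 0; 0, 1, 0; 0, 0, 1] * !![1, 0, -(s * n); 0, 1, 0; 0, 0, 1] *
        !![1, 0, 0; 0, 1 + 1 * m, 1 * n; 0, 1 * k * m, 1 + 1 * k * n] := by
  simp only [Matrix.mul_fin_three]
  ext i j; fin_cases i <;> fin_cases j <;> simp <;> grind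

theorem tilt_identity (hk : k ≠ 0) (hmk : m + k * n = 0) :
    !![1, 0, 0; 0, 1, -k⁻¹; 0, 0, 1] * !![1, 0, 0; 0, 1 + t * m, t * n; 0, t * k * m, 1 + t * k * n] =
      !![1, 0, 0; 0, 1, 0; 0, t * (k * m), 1] * !![1, 0, 0; 0, 1, -k⁻¹; 0, 0, 1] := by
  simp only [Matrix.mul_fin_three]
  ext i j; fin_cases i <;> fin_cases j <;> simp <;> grind

end Identities

/-- All `1 + t e₁ e₀*` give everything. -/
theorem top_of_lower (hlow : ∀ t : F, x10 t ∈ GenC h) : GenC h = ⊤ := by
  have hup : ∀ t : F, x01 t ∈ GenC h := fun t => by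
    rw [← (gp_conj t).2]
    exact mul_mem (mul_mem (gp_mem h) (hlow t)) (gp_mem h)
  obtain ⟨D, hD, hDe⟩ := dp_mem h
  set S := pS l with hS
  set δ := pd l with hδ
  have hS0 : S ≠ 0 := pS_ne h
  have hl := h.ne0
  have hδ0 : δ ≠ 0 := pd_ne h
  set ε : F := l ^ 3 - 1 with hε
  have hε0 : ε ≠ 0 := fun e => h.cube (by linear_combination -e)
  have hde : δ + ε + δ * ε = 0 := by simp only [hδ, hε, pd]; field_simp; ring
  set m : F := S * (δ + ε) with hm
  have hm0 : m ≠ 0 := mul_ne_zero hS0 fun e => mul_ne_zero hδ0 hε0 (by linear_combination hde - e)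
  set n : F := -ε with hn
  set k : F := -(δ * S) with hk
  have hk0 : k ≠ 0 := neg_ne_zero.2 (mul_ne_zero hδ0 hS0)
  have hmk : m + k * n = 0 := by simp only [hm, hk, hn]; linear_combination S * hde
  let M1 : S3 := x10 m⁻¹ * x01 (-(δ * S)) * D
  have hM1 : M1 ∈ GenC h := mul_mem (mul_mem (hlow _) (hup _)) hD
  let Z : F → S3 := fun t => ⟨!![1, 0, 0; 0, 1 + t * m, t * n; 0, t * k * m, 1 + t * k * n], by
    simp [Matrix.det_fin_three]; linear_combination t * hmk⟩
  have hZe : ∀ t, (Z t : M3) = !![1, 0, 0; 0, 1 + t * m, t * n; 0, t * k * m, 1 + t * k * n] := fun t => rfl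
  have hZ : ∀ t, Z t ∈ GenC h := by
    intro t
    have e : M1 * x10 t = Z t * M1 := by
      refine Subtype.ext ?_
      have hν : l * (l ^ 3)⁻¹ = l * (1 + δ) := by simp only [hδ, pd]; ring
      simp only [M1, Matrix.SpecialLinearGroup.coe_mul, x10_coe, x01_coe, hDe, hZe, dMat, ← hS, ← hδ, hν]
      exact conj_identity l S δ m n k m⁻¹ t (inv_mul_cancel₀ hm0) hk hmk (by
        simp only [hn]; linear_combination -hde)
    have : Z t = M1 * x10 t * M1⁻¹ := by rw [e, mul_inv_cancel_right]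
    rw [this]
    exact mul_mem (mul_mem hM1 (hlow t)) (inv_mem hM1)
  have h02 : ∀ s : F, E 0 2 (by decide) s ∈ GenC h := by
    intro s
    have hn0 : n ≠ 0 := neg_ne_zero.2 hε0
    set s' : F := -(s / n)
    have e : Z 1 * x01 s' = x01 (s' * (1 - m)) * E 0 2 (by decide) s * Z 1 := by
      refine Subtype.ext ?_
      have hs : s = -(s' * n) := by simp [s', hn0]
      simp only [Matrix.SpecialLinearGroup.coe_mul, x01_coe, E02_coe, hZe]
      rw [hs]
      exact comm_identity m n k s' hmk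
    have : E 0 2 (by decide) s = (x01 (s' * (1 - m)))⁻¹ * (Z 1 * x01 s') * (Z 1)⁻¹ := by
      rw [e, ← mul_assoc, inv_mul_cancel_left]
      group
    rw [this]
    exact mul_mem (mul_mem (inv_mem (hup _)) (mul_mem (hZ 1) (hup _))) (inv_mem (hZ 1))
  have hcomm : ∀ {i j o : Fin 3} (hio : i ≠ o) (hoj : o ≠ j) (hij : i ≠ j),
      (∀ t, E i o hio t ∈ GenC h) → (∀ t, E o j hoj t ∈ GenC h) → ∀ t, E i j hij t ∈ GenC h := by
    intro i j o hio hoj hij h1 h2 t
    have := commutator_transvections (ι := Fin 3) hio hoj hij t (1 : F)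
    rw [mul_one] at this
    show Matrix.SpecialLinearGroup.transvection hij t ∈ GenC h
    rw [← this, commutatorElement_def]
    exact mul_mem (mul_mem (mul_mem (h1 t) (h2 1)) (inv_mem (h1 t))) (inv_mem (h2 1))
  have h12 : ∀ t, E 1 2 (by decide) t ∈ GenC h := hcomm (o := 0) (by decide) (by decide) _ hlow h02
  have h21 : ∀ t, E 2 1 (by decide) t ∈ GenC h := by
    intro t
    set t' := t / (k * m)
    have e : E 1 2 (by decide) (-k⁻¹) * Z t' = E 2 1 (by decide) t * E 1 2 (by decide) (-k⁻¹) := by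
      refine Subtype.ext ?_
      have ht : t = t' * (k * m) := by simp [t', hm0, hk0]
      simp only [Matrix.SpecialLinearGroup.coe_mul, E12_coe, E21_coe, hZe]
      rw [ht]
      exact tilt_identity m n k t' hk0 hmk
    have : E 2 1 (by decide) t = E 1 2 (by decide) (-k⁻¹) * Z t' * (E 1 2 (by decide) (-k⁻¹))⁻¹ := by
      rw [e, mul_inv_cancel_right]
    rw [this]
    exact mul_mem (mul_mem (h12 _) (hZ _)) (inv_mem (h12 _))
  have h20 : ∀ t, E 2 0 (by decide) t ∈ GenC h := hcomm (o := 1) (by decide) (by decide) _ h21 hlow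
  refine eq_top_of_transvection_mem fun i j hij t => ?_
  fin_cases i <;> fin_cases j
  · exact absurd rfl hij
  · exact hup t
  · exact h02 t
  · exact hlow t
  · exact absurd rfl hij
  · exact h12 t
  · exact h20 t
  · exact h21 t
  · exact absurd rfl hij

/-- the plane change of basis -/
def bMat (l : F) : M3 := !![-pS l, 1, 0; 1, 0, 1; pS l, -1, pS l]

/-- block matrices -/
def emb (c e : F) (A : Matrix (Fin 2) (Fin 2) F) : M3 :=
  !![c * A 0 0, c * A 0 1, 0; c * A 1 0, c * A 1 1, 0; 0, 0, e]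

theorem emb_mul (c e c' e' : F) (A A' : Matrix (Fin 2) (Fin 2) F) :
    emb c e A * emb c' e' A' = emb (c * c') (e * e') (A * A') := by
  rw [emb, emb, emb, Matrix.mul_fin_three]
  ext i j; fin_cases i <;> fin_cases j <;> simp [Matrix.mul_apply, Fin.sum_univ_two] <;> ring

theorem emb_one : emb (1 : F) 1 1 = 1 := by
  rw [emb, Matrix.one_fin_three]
  ext i j; fin_cases i <;> fin_cases j <;> simp

/-- the plane group, up to scalars -/
def Plane : Subgroup S2 where
  carrier := {A | ∃ y ∈ GenC h, ∃ c e : F, (y : M3) * bMat l = bMat l * emb c e A}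
  one_mem' := ⟨1, one_mem _, 1, 1, by simp [emb_one]⟩
  mul_mem' := by
    rintro a b ⟨y, hy, c, e, he⟩ ⟨z, hz, c', e', he'⟩
    refine ⟨y * z, mul_mem hy hz, c * c', e * e', ?_⟩
    rw [Matrix.SpecialLinearGroup.coe_mul, Matrix.SpecialLinearGroup.coe_mul, mul_assoc, he', ← mul_assoc, he,
      mul_assoc, emb_mul]
  inv_mem' := by
    intro a ha
    have key : ∀ n : ℕ, ∃ y ∈ GenC h, ∃ c e : F, (y : M3) * bMat l = bMat l * emb c e ((a ^ n : S2) : Matrix (Fin 2) (Fin 2) F) := by
      intro n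
      induction n with
      | zero => exact ⟨1, one_mem _, 1, 1, by simp [emb_one]⟩
      | succ n ih =>
        obtain ⟨y, hy, c, e, he⟩ := ih
        obtain ⟨z, hz, c', e', he'⟩ := ha
        refine ⟨y * z, mul_mem hy hz, c * c', e * e', ?_⟩
        rw [Matrix.SpecialLinearGroup.coe_mul, pow_succ, Matrix.SpecialLinearGroup.coe_mul, mul_assoc, he',
          ← mul_assoc, he, mul_assoc, emb_mul]
    have e : a⁻¹ = a ^ (orderOf a - 1) := by
      rw [inv_eq_iff_mul_eq_one, ← pow_succ', Nat.sub_add_cancel (orderOf_pos a), pow_orderOf_eq_one]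
    rw [e]
    exact key _

theorem plane_neg {A : S2} (hA : A ∈ Plane h) : -A ∈ Plane h := by
  obtain ⟨y, hy, c, e, he⟩ := hA
  refine ⟨y, hy, -c, e, ?_⟩
  rw [he]
  congr 1
  simp only [emb, Matrix.SpecialLinearGroup.coe_neg, Matrix.neg_apply, neg_mul_neg]

/-- the torus element of the plane -/
def tSL : S2 := Linear.Dickson.dSL (Units.mk0 (l ^ 3) (pow_ne_zero _ h.ne0))

theorem tSL_mem : tSL h ∈ Plane h := by
  obtain ⟨D, hD, hDe⟩ := dp_mem h
  refine ⟨D * D, mul_mem hD hD, l⁻¹, l ^ 2, ?_⟩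
  have := h.ne0
  rw [Matrix.SpecialLinearGroup.coe_mul, hDe, tSL, Linear.Dickson.dSL_coe, dMat, bMat, emb, Matrix.mul_fin_three,
    Matrix.mul_fin_three, Matrix.mul_fin_three]
  ext i j; fin_cases i <;> fin_cases j <;> simp [pd] <;> field_simp <;> ring

/-- the transvections of the plane -/
def mSL (l t : F) : S2 :=
  ⟨!![1 - t * pS l, t; -(t * pS l ^ 2), 1 + t * pS l], by simp [Matrix.det_fin_two]; ring⟩

theorem mSL_spec (t : F) : (x10 t : M3) * bMat l = bMat l * emb 1 1 (mSL l t : Matrix (Fin 2) (Fin 2) F) := by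
  rw [x10_coe, mSL, bMat, emb, Matrix.mul_fin_three, Matrix.mul_fin_three]
  ext i j; fin_cases i <;> fin_cases j <;> simp <;> ring

theorem mSL_mem : mSL l (pP l / l) ∈ Plane h := ⟨_, x10P_mem h, 1, 1, mSL_spec _⟩

include h in
theorem bMat_isUnit : IsUnit (bMat l) := by
  rw [Matrix.isUnit_iff_isUnit_det, isUnit_iff_ne_zero]
  have := pS_ne h
  simpa [bMat, Matrix.det_fin_three] using this

/-- If the plane group is everything then so is the generated group. -/
theorem top_of_plane (hq : 4 ≤ Fintype.card F) (hp : Plane h = ⊤) : Gen h = ⊤ := by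
  refine gen_eq_top h (top_of_lower h fun t => ?_)
  let K : Subgroup S2 :=
    { carrier := {A | ∃ y ∈ GenC h, (y : M3) * bMat l = bMat l * emb 1 1 A}
      one_mem' := ⟨1, one_mem _, by simp [emb_one]⟩
      mul_mem' := by
        rintro a b ⟨y, hy, he⟩ ⟨z, hz, he'⟩
        refine ⟨y * z, mul_mem hy hz, ?_⟩
        rw [Matrix.SpecialLinearGroup.coe_mul, Matrix.SpecialLinearGroup.coe_mul, mul_assoc, he', ← mul_assoc, he,
          mul_assoc, emb_mul, one_mul]
      inv_mem' := by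
        rintro a ⟨y, hy, he⟩
        refine ⟨y⁻¹, inv_mem hy, ?_⟩
        have hu : IsUnit (y : M3) := (Matrix.isUnit_iff_isUnit_det _).2 (by rw [y.2]; exact isUnit_one)
        refine hu.mul_left_cancel ?_
        rw [← mul_assoc, ← Matrix.SpecialLinearGroup.coe_mul, mul_inv_cancel, Matrix.SpecialLinearGroup.coe_one,
          one_mul, ← mul_assoc, he, mul_assoc, emb_mul, one_mul, ← Matrix.SpecialLinearGroup.coe_mul, mul_inv_cancel,
          Matrix.SpecialLinearGroup.coe_one, emb_one, mul_one] }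
  have hK : K = ⊤ := by
    rw [eq_top_iff, ← commutator_SL_eq_top_of_card (ι := Fin 2) (F := F) (Or.inr (by simpa using hq)),
      commutator_def, Subgroup.commutator_le]
    intro a _ b _
    obtain ⟨y, hy, c, e, he⟩ : a ∈ Plane h := hp ▸ Subgroup.mem_top a
    obtain ⟨z, hz, c', e', he'⟩ : b ∈ Plane h := hp ▸ Subgroup.mem_top b
    refine ⟨⁅y, z⁆, ?_, ?_⟩
    · rw [commutatorElement_def]
      exact mul_mem (mul_mem (mul_mem hy hz) (inv_mem hy)) (inv_mem hz)
    have h1 : ∀ (y z : S3) (a b : S2) (c e c' e' : F), (y : M3) * bMat l = bMat l * emb c e a →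
        (z : M3) * bMat l = bMat l * emb c' e' b →
        ((y * z : S3) : M3) * bMat l = bMat l * emb (c * c') (e * e') ((a * b : S2) : Matrix (Fin 2) (Fin 2) F) :=
      fun y z a b c e c' e' he he' => by
        rw [Matrix.SpecialLinearGroup.coe_mul, Matrix.SpecialLinearGroup.coe_mul, mul_assoc, he', ← mul_assoc, he,
          mul_assoc, emb_mul]
    have h2 := h1 y z a b c e c' e' he he'
    have h3 := h1 z y b a c' e' c e he' he
    have hcy : ⁅y, z⁆ * (z * y) = y * z := by rw [commutatorElement_def]; group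
    have hca : ⁅a, b⁆ * (b * a) = a * b := by rw [commutatorElement_def]; group
    rw [← hcy, Matrix.SpecialLinearGroup.coe_mul, mul_assoc, h3, ← mul_assoc, ← hca,
      show c * c' = 1 * (c' * c) by ring, show e * e' = 1 * (e' * e) by ring, Matrix.SpecialLinearGroup.coe_mul ⁅a, b⁆,
      ← emb_mul 1 1, ← mul_assoc (bMat l)] at h2
    have hu : IsUnit (emb (c' * c) (e' * e) ((b * a : S2) : Matrix (Fin 2) (Fin 2) F)) := by
      have hd := congrArg Matrix.det h3
      rw [Matrix.det_mul, Matrix.det_mul, (z * y).2, one_mul] at hd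
      rw [Matrix.isUnit_iff_isUnit_det, isUnit_iff_ne_zero]
      intro h0
      rw [h0, mul_zero] at hd
      exact ((Matrix.isUnit_iff_isUnit_det _).1 (bMat_isUnit h)).ne_zero hd
    exact hu.mul_right_cancel h2
  obtain ⟨y, hy, he⟩ : mSL l t ∈ K := hK ▸ Subgroup.mem_top _
  rw [← mSL_spec] at he
  exact Subtype.ext ((bMat_isUnit h).mul_right_cancel he) ▸ hy

/-- For prime fields one pair of transvections suffices. -/
theorem top_of_prime (hp : (Fintype.card F).Prime) : Gen h = ⊤ := by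
  refine gen_eq_top h (top_of_lower h fun t => ?_)
  have hW : pP l / l ≠ 0 := div_ne_zero (pP_ne h) h.ne0
  haveI := Fact.mk hp
  haveI : CharP F (Fintype.card F) := charP_of_card_eq_prime rfl
  obtain ⟨n, hn⟩ := (ZMod.castHom_bijective F rfl : Function.Bijective (ZMod.castHom dvd_rfl F)).2 (t / (pP l / l))
  have h1 : ∀ m : ℕ, (x10 (pP l / l) : S3) ^ m = x10 (m * (pP l / l)) := by
    intro m
    induction m with
    | zero => refine Subtype.ext ?_; rw [x10_coe, pow_zero, Matrix.SpecialLinearGroup.coe_one, Matrix.one_fin_three]; simp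
    | succ m ih =>
      rw [pow_succ, ih]
      refine Subtype.ext ?_
      rw [Matrix.SpecialLinearGroup.coe_mul, x10_coe, x10_coe, x10_coe, Matrix.mul_fin_three]
      ext i j; fin_cases i <;> fin_cases j <;> simp; ring
  have h2 := (GenC h).pow_mem (x10P_mem h) n.val
  rw [h1, show ((n.val : ℕ) : F) = ZMod.castHom dvd_rfl F n by simp [ZMod.natCast_val], hn,
    div_mul_cancel₀ t hW] at h2
  exact h2

end Cfsg.Agent.Arith.SL3Gen
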