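import Mathlib

/-!
Kernel-computable models of small finite fields, used to check generation certificates.
-/

set_option autoImplicit false

namespace Cfsg.Agent.Arith.SL3Gen

/-- Computable arithmetic on `R`. -/
structure Ops (R : Type) where
  add : R → R → R
  mul : R → R → R
  zero : R
  one : R

/-- integers mod `p` -/
def Ops.nat (p : ℕ) : Ops ℕ where
  add a b := (a + b) % p
  mul a b := a * b % p
  zero := 0
  one := 1

/-- quadratic extension by `z` with `z² = r0 + r1 z` -/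
def Ops.ext {R : Type} (o : Ops R) (r0 r1 : R) : Ops (R × R) where
  add a b := (o.add a.1 b.1, o.add a.2 b.2)
  mul a b := (o.add (o.mul a.1 b.1) (o.mul (o.mul a.2 b.2) r0),
    o.add (o.add (o.mul a.1 b.2) (o.mul a.2 b.1)) (o.mul (o.mul a.2 b.2) r1))
  zero := (o.zero, o.zero)
  one := (o.one, o.zero)

/-- Computable arithmetic `R` with a map to `F` respecting it. -/
structure Mdl (R : Type) (F : Type*) [Ring F] extends Ops R where
  φ : R → F
  hadd : ∀ a b, φ (add a b) = φ a + φ b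
  hmul : ∀ a b, φ (mul a b) = φ a * φ b
  hzero : φ zero = 0
  hone : φ one = 1

variable {R : Type} {F : Type*} [CommRing F]

/-- integers mod `p` -/
def base (p : ℕ) [CharP F p] : Mdl ℕ F where
  toOps := Ops.nat p
  φ a := (a : F)
  hadd a b := by rw [Ops.nat, ← CharP.cast_eq_mod F p, Nat.cast_add]
  hmul a b := by rw [Ops.nat, ← CharP.cast_eq_mod F p, Nat.cast_mul]
  hzero := by simp [Ops.nat]
  hone := by simp [Ops.nat]

/-- quadratic extension by `z` with `z² = r0 + r1 z` -/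
def Mdl.ext (M : Mdl R F) (r0 r1 : R) (z : F) (hz : z ^ 2 = M.φ r0 + M.φ r1 * z) : Mdl (R × R) F where
  toOps := M.toOps.ext r0 r1
  φ a := M.φ a.1 + M.φ a.2 * z
  hadd a b := by simp only [Ops.ext, M.hadd]; ring
  hmul a b := by
    simp only [Ops.ext, M.hadd, M.hmul]
    linear_combination -(M.φ a.2 * M.φ b.2) * hz
  hzero := by simp [Ops.ext, M.hzero]
  hone := by simp [Ops.ext, M.hone, M.hzero]

/-- 2 × 2 matrices as tuples -/
abbrev T4 (R : Type) := R × R × R × R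

/-- multiplication -/
def Ops.mul4 (M : Ops R) : T4 R → T4 R → T4 R
  | (a, b, c, d), (a', b', c', d') =>
    (M.add (M.mul a a') (M.mul b c'), M.add (M.mul a b') (M.mul b d'),
      M.add (M.mul c a') (M.mul d c'), M.add (M.mul c b') (M.mul d d'))

/-- the identity -/
def Ops.id4 (M : Ops R) : T4 R := (M.one, M.zero, M.zero, M.one)

/-- the represented matrix -/
def Mdl.to4 (M : Mdl R F) : T4 R → Matrix (Fin 2) (Fin 2) F
  | (a, b, c, d) => !![M.φ a, M.φ b; M.φ c, M.φ d]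

theorem Mdl.to4_mul (M : Mdl R F) (A B : T4 R) : M.to4 (M.mul4 A B) = M.to4 A * M.to4 B := by
  obtain ⟨a, b, c, d⟩ := A
  obtain ⟨a', b', c', d'⟩ := B
  simp [Ops.mul4, Mdl.to4, M.hadd, M.hmul]

theorem Mdl.to4_id (M : Mdl R F) : M.to4 M.id4 = 1 := by
  simp [Ops.id4, Mdl.to4, M.hone, M.hzero, Matrix.one_fin_two]

/-- evaluation of a word -/
def Ops.word4 (M : Ops R) (gens : List (T4 R)) : List ℕ → T4 R
  | [] => M.id4
  | i :: w => M.mul4 (gens.getD i M.id4) (M.word4 gens w)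

theorem Mdl.word4_mem (M : Mdl R F) (H : Subgroup (Matrix.SpecialLinearGroup (Fin 2) F)) {gens : List (T4 R)}
    (hg : ∀ A ∈ gens, ∃ x ∈ H, (x : Matrix (Fin 2) (Fin 2) F) = M.to4 A) (w : List ℕ) :
    ∃ x ∈ H, (x : Matrix (Fin 2) (Fin 2) F) = M.to4 (M.word4 gens w) := by
  have hid : ∃ x ∈ H, (x : Matrix (Fin 2) (Fin 2) F) = M.to4 M.id4 := ⟨1, H.one_mem, by rw [M.to4_id]; rfl⟩
  induction w with
  | nil => exact hid
  | cons i w ih =>
    obtain ⟨y, hy, ey⟩ := ih
    obtain ⟨x, hx, ex⟩ : ∃ x ∈ H, (x : Matrix (Fin 2) (Fin 2) F) = M.to4 (gens.getD i M.id4) := by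
      rcases lt_or_ge i gens.length with hi | hi
      · rw [List.getD_eq_getElem _ _ hi]; exact hg _ (List.getElem_mem hi)
      · rw [List.getD_eq_default _ _ hi]; exact hid
    exact ⟨x * y, H.mul_mem hx hy, by rw [Ops.word4, M.to4_mul, Matrix.SpecialLinearGroup.coe_mul, ex, ey]⟩

/-- 3 × 3 matrices as tuples -/
abbrev T9 (R : Type) := (R × R × R) × (R × R × R) × (R × R × R)

/-- multiplication -/
def Ops.mul9 (M : Ops R) : T9 R → T9 R → T9 R
  | (r1, r2, r3), ((a, b, c), (a', b', c'), (a'', b'', c'')) =>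
    let row : R × R × R → R × R × R := fun
      | (x, y, z) => (M.add (M.add (M.mul x a) (M.mul y a')) (M.mul z a''),
          M.add (M.add (M.mul x b) (M.mul y b')) (M.mul z b''),
          M.add (M.add (M.mul x c) (M.mul y c')) (M.mul z c''))
    (row r1, row r2, row r3)

/-- the identity -/
def Ops.id9 (M : Ops R) : T9 R :=
  ((M.one, M.zero, M.zero), (M.zero, M.one, M.zero), (M.zero, M.zero, M.one))

/-- the represented matrix -/
def Mdl.to9 (M : Mdl R F) : T9 R → Matrix (Fin 3) (Fin 3) F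
  | ((a, b, c), (a', b', c'), (a'', b'', c'')) =>
    !![M.φ a, M.φ b, M.φ c; M.φ a', M.φ b', M.φ c'; M.φ a'', M.φ b'', M.φ c'']

theorem Mdl.to9_mul (M : Mdl R F) (A B : T9 R) : M.to9 (M.mul9 A B) = M.to9 A * M.to9 B := by
  obtain ⟨⟨a, b, c⟩, ⟨a', b', c'⟩, ⟨a'', b'', c''⟩⟩ := A
  obtain ⟨⟨x, y, z⟩, ⟨x', y', z'⟩, ⟨x'', y'', z''⟩⟩ := B
  simp [Ops.mul9, Mdl.to9, M.hadd, M.hmul, Matrix.mul_fin_three, add_assoc]

theorem Mdl.to9_id (M : Mdl R F) : M.to9 M.id9 = 1 := by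
  simp [Ops.id9, Mdl.to9, M.hone, M.hzero, Matrix.one_fin_three]

/-- evaluation of a word -/
def Ops.word9 (M : Ops R) (gens : List (T9 R)) : List ℕ → T9 R
  | [] => M.id9
  | i :: w => M.mul9 (gens.getD i M.id9) (M.word9 gens w)

theorem Mdl.word9_mem (M : Mdl R F) (H : Subgroup (Matrix.SpecialLinearGroup (Fin 3) F)) {gens : List (T9 R)}
    (hg : ∀ A ∈ gens, ∃ x ∈ H, (x : Matrix (Fin 3) (Fin 3) F) = M.to9 A) (w : List ℕ) :
    ∃ x ∈ H, (x : Matrix (Fin 3) (Fin 3) F) = M.to9 (M.word9 gens w) := by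
  have hid : ∃ x ∈ H, (x : Matrix (Fin 3) (Fin 3) F) = M.to9 M.id9 := ⟨1, H.one_mem, by rw [M.to9_id]; rfl⟩
  induction w with
  | nil => exact hid
  | cons i w ih =>
    obtain ⟨y, hy, ey⟩ := ih
    obtain ⟨x, hx, ex⟩ : ∃ x ∈ H, (x : Matrix (Fin 3) (Fin 3) F) = M.to9 (gens.getD i M.id9) := by
      rcases lt_or_ge i gens.length with hi | hi
      · rw [List.getD_eq_getElem _ _ hi]; exact hg _ (List.getElem_mem hi)
      · rw [List.getD_eq_default _ _ hi]; exact hid
    exact ⟨x * y, H.mul_mem hx hy, by rw [Ops.word9, M.to9_mul, Matrix.SpecialLinearGroup.coe_mul, ex, ey]⟩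

end Cfsg.Agent.Arith.SL3Gen
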