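import Mathlib
import Cfsg.Agent.Arith.SL3Gen.Model
import Cfsg.Agent.Arith.SL3Gen.Frame

/-!
Soundness of the certificates for small fields.
-/

set_option autoImplicit false
set_option linter.unusedSectionVars false

namespace Cfsg.Agent.Arith.SL3Gen

open Matrix Cfsg.Agent.Linear

variable {R : Type} [DecidableEq R] {F : Type*} [Field F] [Fintype F]

/-- negative one -/
def Ops.IsNegOne (M : Ops R) (m : R) : Prop := M.add M.one m = M.zero

theorem Mdl.negOne (M : Mdl R F) {m : R} (h : M.IsNegOne m) : M.φ m = -1 := by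
  have := congrArg M.φ h
  rw [M.hadd, M.hone, M.hzero] at this
  linear_combination this

theorem Mdl.mul_one' (M : Mdl R F) {a b : R} (h : M.mul a b = M.one) : M.φ a * M.φ b = 1 := by
  rw [← M.hmul, h, M.hone]

/-- a decoding of all elements -/
theorem Mdl.surj (M : Mdl R F) (O : Ops R) (hO : M.toOps = O) {q : ℕ} [NeZero q] (hq : Fintype.card F = q)
    (dec : Fin q → R) (enc : R → Fin q)
    {m : R} (hm : O.add O.one m = O.zero) (h1 : ∀ a : Fin q, a ≠ 0 → ∃ c : Fin q, O.mul (dec a) (dec c) = O.one)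
    (h2 : ∀ i j : Fin q, i ≠ j →
      dec (enc (O.add (dec i) (O.mul m (dec j)))) = O.add (dec i) (O.mul m (dec j)) ∧
        enc (O.add (dec i) (O.mul m (dec j))) ≠ 0) :
    Function.Surjective fun i => M.φ (dec i) := by
  subst hO
  refine (Function.Injective.bijective_of_nat_card_le (fun i j hij => ?_) (by simp [hq])).2
  by_contra hne
  obtain ⟨e, hk⟩ := h2 i j hne
  obtain ⟨c, hc⟩ := h1 _ hk
  have h := M.mul_one' hc
  rw [e, M.hadd, M.hmul, M.negOne hm] at h
  rw [hij, neg_one_mul, add_neg_cancel, zero_mul] at h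
  exact zero_ne_one h

/-- the data for the plane -/
structure PlaneData (R : Type) where
  l : R
  linv : R
  S : R
  W : R
  rinv : R
  ci : R
  ai : R
  si : R
  m : R

/-- `l³` -/
def Ops.rho (M : Ops R) (d : PlaneData R) : R := M.mul (M.mul d.l d.l) d.l

/-- the conditions on the data -/
def PlaneData.Ok (M : Ops R) (d : PlaneData R) : Prop :=
  M.add M.one d.m = M.zero ∧ M.mul d.l d.linv = M.one ∧ M.mul (M.rho d) d.rinv = M.one ∧
  M.mul (M.add M.one (M.mul d.m (M.rho d))) d.ci = M.one ∧ M.mul (M.add M.one d.l) d.ai = M.one ∧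
  M.mul (M.add M.one (M.mul d.l d.l)) d.si = M.one ∧
  M.mul d.S (M.mul (M.add M.one (M.mul d.m (M.rho d))) (M.add M.one (M.mul d.m (M.rho d)))) =
    M.mul (M.mul (M.add M.one (M.mul d.l d.l)) (M.add M.one (M.mul d.l d.l))) (M.add M.one (M.mul d.l d.l)) ∧
  M.mul d.W (M.add M.one (M.mul d.m (M.rho d))) =
    M.mul d.m (M.mul (M.mul (M.add M.one d.l) (M.add M.one d.l)) (M.add M.one d.l))

instance (M : Ops R) (d : PlaneData R) : Decidable (d.Ok M) := by unfold PlaneData.Ok; infer_instance

/-- the two generators -/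
def PlaneData.gens (M : Ops R) (d : PlaneData R) : List (T4 R) :=
  [(M.rho d, M.zero, M.zero, d.rinv),
    (M.add M.one (M.mul d.m (M.mul d.W d.S)), d.W, M.mul d.m (M.mul d.W (M.mul d.S d.S)),
      M.add M.one (M.mul d.W d.S))]

/-- the targets are reached -/
def PlaneData.Reach (M : Ops R) (d : PlaneData R) (cert : List (R × List ℕ × List ℕ)) : Prop :=
  ∀ c ∈ cert, M.word4 (d.gens M) c.2.1 = (M.one, c.1, M.zero, M.one) ∧
    M.word4 (d.gens M) c.2.2 = (M.one, M.zero, c.1, M.one)

instance (M : Ops R) (d : PlaneData R) (cert : List (R × List ℕ × List ℕ)) : Decidable (d.Reach M cert) := by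
  unfold PlaneData.Reach; infer_instance

theorem plane_of_cert (M : Mdl R F) (O : Ops R) (hO : M.toOps = O) (d : PlaneData R) (hok : d.Ok O)
    (cert : List (R × List ℕ × List ℕ)) (hreach : d.Reach O cert)
    (hspan : ∀ A : AddSubgroup F, (∀ c ∈ cert, M.φ c.1 ∈ A) → A = ⊤) :
    ∃ h : Good (M.φ d.l), Plane h = ⊤ := by
  subst hO
  obtain ⟨hm, hl, hr, hc, ha, hs, hS, hW⟩ := hok
  have em := M.negOne hm
  have el := M.mul_one' hl
  have er := M.mul_one' hr
  have ec := M.mul_one' hc
  have ea := M.mul_one' ha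
  have es := M.mul_one' hs
  have eS := congrArg M.φ hS
  have eW := congrArg M.φ hW
  simp only [Ops.rho, M.hmul, M.hadd, M.hone, em] at er ec ea es eS eW
  set l := M.φ d.l with hldef
  have hne : l ≠ 0 := fun e => by rw [e, zero_mul] at el; exact zero_ne_one el
  have hcube : 1 - l ^ 3 ≠ 0 := fun e => by
    rw [show 1 + -1 * (l * l * l) = 0 by linear_combination e, zero_mul] at ec
    exact zero_ne_one ec
  have hg : Good l := ⟨hne, hcube, fun e => by rw [e, zero_mul] at ea; exact zero_ne_one ea,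
    fun e => by rw [show 1 + l * l = 0 by linear_combination e, zero_mul] at es; exact zero_ne_one es⟩
  refine ⟨hg, ?_⟩
  have hSv : M.φ d.S = pS l := by
    rw [pS, eq_div_iff (pow_ne_zero _ hcube)]
    linear_combination eS
  have hWv : M.φ d.W = pP l / l := by
    rw [pP, eq_div_iff hne, eq_div_iff hcube]
    linear_combination l * eW
  have hgens : ∀ A ∈ d.gens M.toOps, ∃ x ∈ Plane hg, (x : Matrix (Fin 2) (Fin 2) F) = M.to4 A := by
    intro A hA
    simp only [PlaneData.gens, List.mem_cons, List.not_mem_nil, or_false] at hA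
    rcases hA with rfl | rfl
    · refine ⟨tSL hg, tSL_mem hg, ?_⟩
      have hinv : M.φ d.rinv = (l ^ 3)⁻¹ := (inv_eq_of_mul_eq_one_right (by linear_combination er)).symm
      rw [tSL, Linear.Dickson.dSL_coe]
      simp only [Mdl.to4, Ops.rho, M.hmul, M.hzero, hinv]
      simp [← hldef, pow_succ]
    · refine ⟨mSL l (pP l / l), mSL_mem hg, ?_⟩
      show !![_, _; _, _] = _
      simp only [Mdl.to4, M.hadd, M.hmul, M.hone, em, hSv, hWv]
      congr 1
      ext i j
      fin_cases i <;> fin_cases j <;> simp <;> first | ring1 | (left; ring1)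
  let U : AddSubgroup F :=
    { carrier := {t | upSL t ∈ Plane hg ∧ Linear.Dickson.loSL t ∈ Plane hg}
      zero_mem' := by
        refine ⟨?_, ?_⟩
        · rw [Linear.Dickson.upSL_zero]; exact one_mem _
        · rw [show Linear.Dickson.loSL (0 : F) = 1 from SL_ext_two (by simp [Linear.Dickson.loSL_coe])
            (by simp [Linear.Dickson.loSL_coe]) (by simp [Linear.Dickson.loSL_coe]) (by simp [Linear.Dickson.loSL_coe])]
          exact one_mem _
      add_mem' := by
        rintro a b ⟨ha, ha'⟩ ⟨hb, hb'⟩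
        refine ⟨by rw [Linear.Dickson.upSL_add]; exact mul_mem ha hb, ?_⟩
        have : Linear.Dickson.loSL (a + b) = Linear.Dickson.loSL a * Linear.Dickson.loSL b := by
          apply SL_ext_two <;> simp [SL_mul_entries, Linear.Dickson.loSL_coe]
        rw [this]; exact mul_mem ha' hb'
      neg_mem' := by
        rintro a ⟨ha, ha'⟩
        refine ⟨by rw [Linear.Dickson.upSL_neg]; exact inv_mem ha, ?_⟩
        have : Linear.Dickson.loSL (-a) = (Linear.Dickson.loSL a)⁻¹ := by
          refine eq_inv_of_mul_eq_one_left ?_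
          apply SL_ext_two <;> simp [SL_mul_entries, Linear.Dickson.loSL_coe]
        rw [this]; exact inv_mem ha' }
  have hU : U = ⊤ := by
    refine hspan U fun c hc => ?_
    obtain ⟨e1, e2⟩ := hreach c hc
    constructor
    · obtain ⟨x, hx, ex⟩ := M.word4_mem (Plane hg) hgens c.2.1
      rw [e1] at ex
      rwa [show upSL (M.φ c.1) = x from Subtype.ext (by rw [ex, upSL_coe]; simp [Mdl.to4, M.hone, M.hzero])]
    · obtain ⟨x, hx, ex⟩ := M.word4_mem (Plane hg) hgens c.2.2
      rw [e2] at ex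
      rwa [show Linear.Dickson.loSL (M.φ c.1) = x from Subtype.ext (by
        rw [ex, Linear.Dickson.loSL_coe]; simp [Mdl.to4, M.hone, M.hzero])]
  refine eq_top_of_transvection_mem fun i j hij t => ?_
  obtain ⟨hu, hl'⟩ : t ∈ U := hU ▸ AddSubgroup.mem_top t
  fin_cases i <;> fin_cases j
  · exact absurd rfl hij
  · convert hu using 1
    apply SL_ext_two <;> simp [upSL_coe, Matrix.SpecialLinearGroup.transvection_coe]
  · convert hl' using 1
    apply SL_ext_two <;> simp [Linear.Dickson.loSL_coe, Matrix.SpecialLinearGroup.transvection_coe]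
  · exact absurd rfl hij

/-- determinant -/
def Ops.det9 (M : Ops R) (m : R) : T9 R → R
  | ((a, b, c), (d, e, f), (g, h, i)) =>
    M.add (M.add (M.add (M.mul (M.mul a e) i) (M.mul (M.mul b f) g)) (M.mul (M.mul c d) h))
      (M.mul m (M.add (M.add (M.mul (M.mul c e) g) (M.mul (M.mul a f) h)) (M.mul (M.mul b d) i)))

theorem Mdl.det9_eq (M : Mdl R F) {m : R} (hm : M.IsNegOne m) (A : T9 R) :
    (M.to9 A).det = M.φ (M.det9 m A) := by
  obtain ⟨⟨a, b, c⟩, ⟨d, e, f⟩, ⟨g, h, i⟩⟩ := A
  simp [Mdl.to9, Ops.det9, M.hadd, M.hmul, M.negOne hm, Matrix.det_fin_three]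
  ring

/-- the standard regular unipotent matrix -/
def Ops.jordan9 (M : Ops R) : T9 R :=
  ((M.one, M.one, M.zero), (M.zero, M.one, M.one), (M.zero, M.zero, M.one))

/-- an elementary transvection -/
def Ops.tv9 (M : Ops R) (i j : Fin 3) (b : R) : T9 R :=
  let e : Fin 3 → Fin 3 → R := fun a c => if a = i ∧ c = j then b else if a = c then M.one else M.zero
  ((e 0 0, e 0 1, e 0 2), (e 1 0, e 1 1, e 1 2), (e 2 0, e 2 1, e 2 2))

/-- the conditions for the direct certificate -/
def DirectOk (M : Ops R) (m : R) (g v : T9 R) (cert : List (Fin 3 × Fin 3 × R × List ℕ)) : Prop :=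
  M.add M.one m = M.zero ∧ M.det9 m g = M.one ∧ M.mul9 g M.jordan9 = M.mul9 v g ∧
    ∀ c ∈ cert, M.word9 [M.jordan9, v] c.2.2.2 = M.tv9 c.1 c.2.1 c.2.2.1

instance (M : Ops R) (m : R) (g v : T9 R) (cert : List (Fin 3 × Fin 3 × R × List ℕ)) :
    Decidable (DirectOk M m g v cert) := by unfold DirectOk; infer_instance

theorem exists_of_cert (M : Mdl R F) (O : Ops R) (hO : M.toOps = O) {m : R} {g v : T9 R} {cert : List (Fin 3 × Fin 3 × R × List ℕ)}
    (hok : DirectOk O m g v cert)
    (hspan : ∀ i j : Fin 3, i ≠ j → ∀ A : AddSubgroup F,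
      (∀ c ∈ cert, c.1 = i → c.2.1 = j → M.φ c.2.2.1 ∈ A) → A = ⊤) :
    ∃ u g : Matrix.SpecialLinearGroup (Fin 3) F, IsNilpotent ((u : Matrix (Fin 3) (Fin 3) F) - 1) ∧
      ((u : Matrix (Fin 3) (Fin 3) F) - 1) ^ (3 - 1) ≠ 0 ∧ Subgroup.closure ({u, g * u * g⁻¹} : Set _) = ⊤ := by
  subst hO
  obtain ⟨hm, hdet, hconj, hw⟩ := hok
  have hJ : M.to9 M.jordan9 = !![1, 1, 0; 0, 1, 1; 0, 0, 1] := by
    simp [Ops.jordan9, Mdl.to9, M.hone, M.hzero]
  let u : Matrix.SpecialLinearGroup (Fin 3) F := ⟨M.to9 M.jordan9, by rw [hJ]; simp [Matrix.det_fin_three]⟩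
  let G : Matrix.SpecialLinearGroup (Fin 3) F := ⟨M.to9 g, by rw [M.det9_eq hm, hdet, M.hone]⟩
  set H := Subgroup.closure ({u, G * u * G⁻¹} : Set (Matrix.SpecialLinearGroup (Fin 3) F)) with hH
  refine ⟨u, G, ?_, ?_, ?_⟩
  · refine ⟨3, ?_⟩
    show (M.to9 M.jordan9 - 1) ^ 3 = 0
    rw [hJ, Matrix.one_fin_three, pow_succ, pow_two]
    ext i j; fin_cases i <;> fin_cases j <;> simp [Matrix.mul_apply, Fin.sum_univ_three]
  · show (M.to9 M.jordan9 - 1) ^ 2 ≠ 0
    intro e
    have := congrFun (congrFun e 0) 2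
    rw [hJ, Matrix.one_fin_three, pow_two] at this
    simp [Matrix.mul_apply, Fin.sum_univ_three] at this
  have hv : ∀ A ∈ [M.jordan9, v], ∃ x ∈ H, (x : Matrix (Fin 3) (Fin 3) F) = M.to9 A := by
    intro A hA
    simp only [List.mem_cons, List.not_mem_nil, or_false] at hA
    rcases hA with rfl | rfl
    · exact ⟨u, Subgroup.subset_closure (by simp), rfl⟩
    · refine ⟨G * u * G⁻¹, Subgroup.subset_closure (by simp), ?_⟩
      have hG : IsUnit (G : Matrix (Fin 3) (Fin 3) F) := (Matrix.isUnit_iff_isUnit_det _).2 (by rw [G.2]; exact isUnit_one)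
      refine hG.mul_right_cancel ?_
      rw [← Matrix.SpecialLinearGroup.coe_mul, inv_mul_cancel_right, Matrix.SpecialLinearGroup.coe_mul]
      show M.to9 g * M.to9 M.jordan9 = M.to9 _ * M.to9 g
      rw [← M.to9_mul, ← M.to9_mul, hconj]
  refine eq_top_of_transvection_mem fun i j hij t => ?_
  let A : AddSubgroup F :=
    { carrier := {t | (Matrix.SpecialLinearGroup.transvection hij t : Matrix.SpecialLinearGroup (Fin 3) F) ∈ H}
      zero_mem' := by
        show _ ∈ H
        rw [show (Matrix.SpecialLinearGroup.transvection hij (0 : F) : Matrix.SpecialLinearGroup (Fin 3) F) = 1 from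
          Subtype.ext (by simp [Matrix.SpecialLinearGroup.transvection_coe])]
        exact one_mem _
      add_mem' := fun {a b} ha hb => by
        show _ ∈ H
        rw [show (Matrix.SpecialLinearGroup.transvection hij (a + b) : Matrix.SpecialLinearGroup (Fin 3) F) =
          Matrix.SpecialLinearGroup.transvection hij a * Matrix.SpecialLinearGroup.transvection hij b from
          Subtype.ext (Matrix.transvection_mul_transvection_same i j hij a b).symm]
        exact mul_mem ha hb
      neg_mem' := fun {a} ha => by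
        show _ ∈ H
        rw [← Matrix.SpecialLinearGroup.transvection_inv hij a]
        exact inv_mem ha }
  have hA : A = ⊤ := by
    refine hspan i j hij A fun c hc hi hj => ?_
    obtain ⟨x, hx, ex⟩ := M.word9_mem H hv c.2.2.2
    rw [hw c hc, hi, hj] at ex
    show _ ∈ H
    rwa [show (Matrix.SpecialLinearGroup.transvection hij (M.φ c.2.2.1) : Matrix.SpecialLinearGroup (Fin 3) F) = x from
      Subtype.ext (by
        rw [ex, Matrix.SpecialLinearGroup.transvection_coe]
        ext a b
        fin_cases i <;> fin_cases j <;> fin_cases a <;> fin_cases b <;>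
          simp [Ops.tv9, Mdl.to9, M.hone, M.hzero] at hij ⊢)]
  exact (hA ▸ AddSubgroup.mem_top t : t ∈ A)

end Cfsg.Agent.Arith.SL3Gen
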