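import Mathlib
import Cfsg.Agent.Arith.SL3Gen.Cert

/-!
Certificates for the fields with 2, 3, 4, 5, 9, 16, 25, 49 elements.
-/

set_option autoImplicit false

namespace Cfsg.Agent.Arith.SL3Gen

open Matrix

variable {F : Type*} [Field F] [Fintype F]

/-- The conclusion. -/
abbrev TwoGen (F : Type*) [Field F] : Prop :=
  ∃ u g : Matrix.SpecialLinearGroup (Fin 3) F, IsNilpotent ((u : Matrix (Fin 3) (Fin 3) F) - 1) ∧
    ((u : Matrix (Fin 3) (Fin 3) F) - 1) ^ (3 - 1) ≠ 0 ∧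
    Subgroup.closure ({u, g * u * g⁻¹} : Set (Matrix.SpecialLinearGroup (Fin 3) F)) = ⊤

theorem exists_generator : ∃ g : F, g ≠ 0 ∧ ∀ n : ℕ, g ^ n = 1 → Fintype.card F - 1 ∣ n := by
  classical
  obtain ⟨g, hg⟩ := IsCyclic.exists_ofOrder_eq_natCard (α := Fˣ)
  refine ⟨g, g.ne_zero, fun n hn => ?_⟩
  rw [← Fintype.card_units, ← Nat.card_eq_fintype_card, ← hg]
  exact orderOf_dvd_of_pow_eq_one (Units.ext (by rwa [Units.val_pow_eq_pow_val, Units.val_one]))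

theorem pow_card_sub_one {g : F} (hg : g ≠ 0) : g ^ (Fintype.card F - 1) = 1 :=
  FiniteField.pow_card_sub_one_eq_one g hg

theorem exists_sqrt_neg_one (hq : 4 ∣ Fintype.card F - 1) (h2 : (2 : F) ≠ 0) : ∃ z : F, z ^ 2 = -1 := by
  obtain ⟨g, hg, ho⟩ := exists_generator (F := F)
  have hpos : 0 < Fintype.card F - 1 := by have := Fintype.one_lt_card (α := F); omega
  obtain ⟨c, hc⟩ := hq
  refine ⟨g ^ c, ?_⟩
  have h : (g ^ c) ^ 2 * (g ^ c) ^ 2 = 1 := by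
    rw [← pow_add, ← pow_mul, show c * (2 + 2) = Fintype.card F - 1 by omega, pow_card_sub_one hg]
  rcases mul_self_eq_one_iff.1 h with e | e
  · exfalso
    have := Nat.le_of_dvd (by omega) (ho (c * 2) (by rw [pow_mul, e]))
    omega
  · exact e

theorem exists_omega (hq : 3 ∣ Fintype.card F - 1) : ∃ z : F, z ^ 2 = -1 + -1 * z := by
  obtain ⟨g, hg, ho⟩ := exists_generator (F := F)
  have hpos : 0 < Fintype.card F - 1 := by have := Fintype.one_lt_card (α := F); omega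
  obtain ⟨c, hc⟩ := hq
  refine ⟨g ^ c, ?_⟩
  have h : (g ^ c - 1) * ((g ^ c) ^ 2 + g ^ c + 1) = 0 := by
    rw [show (g ^ c - 1) * ((g ^ c) ^ 2 + g ^ c + 1) = (g ^ c) ^ 3 - 1 by ring, ← pow_mul,
      show c * 3 = Fintype.card F - 1 by omega, pow_card_sub_one hg, sub_self]
  rcases mul_eq_zero.1 h with e | e
  · exfalso
    have := Nat.le_of_dvd (by omega) (ho c (sub_eq_zero.1 e))
    omega
  · linear_combination e

theorem exists_zeta_five (hq : 5 ∣ Fintype.card F - 1) : ∃ z : F, z ^ 4 + z ^ 3 + z ^ 2 + z + 1 = 0 := by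
  obtain ⟨g, hg, ho⟩ := exists_generator (F := F)
  have hpos : 0 < Fintype.card F - 1 := by have := Fintype.one_lt_card (α := F); omega
  obtain ⟨c, hc⟩ := hq
  refine ⟨g ^ c, ?_⟩
  have h : (g ^ c - 1) * ((g ^ c) ^ 4 + (g ^ c) ^ 3 + (g ^ c) ^ 2 + g ^ c + 1) = 0 := by
    rw [show (g ^ c - 1) * ((g ^ c) ^ 4 + (g ^ c) ^ 3 + (g ^ c) ^ 2 + g ^ c + 1) = (g ^ c) ^ 5 - 1 by ring,
      ← pow_mul, show c * 5 = Fintype.card F - 1 by omega, pow_card_sub_one hg, sub_self]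
  rcases mul_eq_zero.1 h with e | e
  · exfalso
    have := Nat.le_of_dvd (by omega) (ho c (sub_eq_zero.1 e))
    omega
  · exact e

theorem top_of_mem_one_z {p : ℕ} [CharP F p] {z : F} (hs : Function.Surjective
      fun i : Fin (p * p) => ((i.val % p : ℕ) : F) + ((i.val / p : ℕ) : F) * z)
    (A : AddSubgroup F) (h1 : (1 : F) ∈ A) (hz : z ∈ A) : A = ⊤ := by
  rw [eq_top_iff]
  intro x _
  obtain ⟨i, rfl⟩ := hs x
  refine add_mem ?_ ?_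
  · simpa using nsmul_mem h1 (i.val % p)
  · simpa [nsmul_eq_mul] using nsmul_mem hz (i.val / p)

theorem plane_nine [CharP F 3] (hq : Fintype.card F = 9) : ∃ (l : F) (h : Good l), Plane h = ⊤ := by
  obtain ⟨z, hz⟩ := exists_sqrt_neg_one (F := F) (by rw [hq]; decide) (fun e => by
    have := (CharP.cast_eq_zero_iff F 3 2).1 (by exact_mod_cast e); omega)
  let M := (base (F := F) 3).ext 2 0 z (by
    have h3 : ((3 : ℕ) : F) = 0 := CharP.cast_eq_zero F 3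
    simp [base]; linear_combination hz - h3)
  refine ⟨_, plane_of_cert M ((Ops.nat 3).ext 2 0) rfl ⟨(1, 1), (2, 1), (2, 2), (1, 2), (2, 2), (0, 2), (1, 1), (2, 2), (2, 0)⟩ (by decide +kernel)
    [((1, 0), [1, 1, 0, 1, 0], [0, 0, 0, 1, 0, 0, 0, 1, 1]), ((0, 1), [0, 1, 1, 0, 1], [0, 1, 0, 1, 1])]
    (by decide +kernel) fun A hA => ?_⟩
  refine top_of_mem_one_z (p := 3) (z := z) ?_ A (by simpa [M, Mdl.ext, base, Ops.ext, Ops.nat] using hA _ List.mem_cons_self)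
    (by simpa [M, Mdl.ext, base, Ops.ext, Ops.nat] using hA _ (List.mem_cons_of_mem _ List.mem_cons_self))
  have := M.surj ((Ops.nat 3).ext 2 0) rfl hq (fun i : Fin 9 => (i.val % 3, i.val / 3)) (fun a => Fin.ofNat 9 (a.1 + 3 * a.2))
    (m := (2, 0)) (by decide +kernel) (by decide +kernel) (by decide +kernel)
  simpa [M, Mdl.ext, base, Ops.ext, Ops.nat] using this

theorem plane_twentyFive [CharP F 5] (hq : Fintype.card F = 25) : ∃ (l : F) (h : Good l), Plane h = ⊤ := by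
  obtain ⟨z, hz⟩ := exists_omega (F := F) (by rw [hq]; decide)
  let M := (base (F := F) 5).ext 4 4 z (by
    have h5 : ((5 : ℕ) : F) = 0 := CharP.cast_eq_zero F 5
    simp [base]; linear_combination hz - (1 + z) * h5)
  refine ⟨_, plane_of_cert M ((Ops.nat 5).ext 4 4) rfl ⟨(2, 1), (2, 3), (2, 1), (4, 4), (1, 2), (3, 2), (1, 2), (2, 4), (4, 0)⟩ (by decide +kernel)
    [((1, 0), [0, 1, 1, 0, 0, 1, 1, 0, 0, 0, 1, 0], [1, 1, 0, 0, 1, 1, 0, 1, 0, 0]),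
      ((0, 1), [0, 0, 0, 1, 1, 1, 0, 1, 0, 1, 1, 0, 0], [0, 0, 1, 0, 0, 1, 0, 1, 0, 0, 1, 1, 0, 0, 1])]
    (by decide +kernel) fun A hA => ?_⟩
  refine top_of_mem_one_z (p := 5) (z := z) ?_ A (by simpa [M, Mdl.ext, base, Ops.ext, Ops.nat] using hA _ List.mem_cons_self)
    (by simpa [M, Mdl.ext, base, Ops.ext, Ops.nat] using hA _ (List.mem_cons_of_mem _ List.mem_cons_self))
  have := M.surj ((Ops.nat 5).ext 4 4) rfl hq (fun i : Fin 25 => (i.val % 5, i.val / 5)) (fun a => Fin.ofNat 25 (a.1 + 5 * a.2))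
    (m := (4, 0)) (by decide +kernel) (by decide +kernel) (by decide +kernel)
  simpa [M, Mdl.ext, base, Ops.ext, Ops.nat] using this

theorem plane_fortyNine [CharP F 7] (hq : Fintype.card F = 49) : ∃ (l : F) (h : Good l), Plane h = ⊤ := by
  obtain ⟨z, hz⟩ := exists_sqrt_neg_one (F := F) (by rw [hq]; decide) (fun e => by
    have := (CharP.cast_eq_zero_iff F 7 2).1 (by exact_mod_cast e); omega)
  let M := (base (F := F) 7).ext 6 0 z (by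
    have h7 : ((7 : ℕ) : F) = 0 := CharP.cast_eq_zero F 7
    simp [base]; linear_combination hz - h7)
  refine ⟨_, plane_of_cert M ((Ops.nat 7).ext 6 0) rfl ⟨(1, 1), (4, 3), (4, 5), (5, 2), (5, 5), (4, 5), (6, 4), (3, 1), (6, 0)⟩ (by decide +kernel)
    [((1, 0), [1, 0, 0, 1, 0, 0, 1, 0, 1, 0, 0, 1, 0, 1, 0, 1, 1, 0],
        [1, 0, 0, 0, 1, 0, 0, 0, 1, 1, 1, 0, 1, 1, 0, 1, 1]),
      ((0, 1), [0, 1, 0, 1, 1, 1, 0, 1, 0, 1, 1, 0, 1, 1, 0, 1, 1, 1],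
        [1, 1, 0, 1, 1, 0, 0, 1, 1, 1, 0, 1, 0, 0, 1, 0, 1, 0])]
    (by decide +kernel) fun A hA => ?_⟩
  refine top_of_mem_one_z (p := 7) (z := z) ?_ A (by simpa [M, Mdl.ext, base, Ops.ext, Ops.nat] using hA _ List.mem_cons_self)
    (by simpa [M, Mdl.ext, base, Ops.ext, Ops.nat] using hA _ (List.mem_cons_of_mem _ List.mem_cons_self))
  have := M.surj ((Ops.nat 7).ext 6 0) rfl hq (fun i : Fin 49 => (i.val % 7, i.val / 7)) (fun a => Fin.ofNat 49 (a.1 + 7 * a.2))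
    (m := (6, 0)) (by decide +kernel) (by decide +kernel) (by decide +kernel)
  simpa [M, Mdl.ext, base, Ops.ext, Ops.nat] using this

theorem plane_sixteen [CharP F 2] (hq : Fintype.card F = 16) : ∃ (l : F) (h : Good l), Plane h = ⊤ := by
  obtain ⟨z, hz⟩ := exists_zeta_five (F := F) (by rw [hq]; decide)
  have h2 : (2 : F) = 0 := by exact_mod_cast CharP.cast_eq_zero F 2
  let M₀ := (base (F := F) 2).ext 1 1 (z ^ 2 + z ^ 3) (by
    simp [base]; linear_combination (z ^ 2 + z + 1) * hz - (2 * z ^ 2 + 2 * z ^ 3 + 1 + z + z ^ 4) * h2)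
  let M := M₀.ext (1, 1) (1, 0) (z + z ^ 2) (by
    simp [M₀, Mdl.ext, base]; linear_combination hz - (1 + z + z ^ 2) * h2)
  refine ⟨_, plane_of_cert M (((Ops.nat 2).ext 1 1).ext (1, 1) (1, 0)) rfl
    ⟨((0, 1), (1, 1)), ((0, 1), (1, 0)), ((1, 0), (1, 1)), ((0, 1), (0, 1)), ((1, 1), (1, 1)), ((1, 1), (1, 0)),
      ((0, 0), (1, 1)), ((1, 0), (0, 1)), ((1, 0), (0, 0))⟩ (by decide +kernel)
    [(((1, 0), (0, 0)), [0, 1, 0, 0, 0, 1, 0, 0, 1, 0, 0, 0, 0, 1, 0, 1, 0],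
        [0, 0, 1, 0, 0, 0, 0, 1, 0, 0, 0, 1, 0, 1, 0, 0, 1]),
      (((0, 1), (0, 0)), [0, 1, 0, 1, 0, 0, 1, 0, 0, 0, 0, 1, 0, 0, 0, 1, 0, 0],
        [0, 0, 0, 1, 0, 1, 0, 1, 0, 1, 0, 0, 1, 0, 0, 1, 0, 1, 0]),
      (((0, 0), (1, 0)), [1, 0, 1, 0, 1, 0, 0, 0, 1, 0, 1, 0, 1, 0, 0, 1],
        [0, 1, 0, 1, 0, 1, 0, 1, 0, 0, 0, 1, 0, 0, 1]),
      (((0, 0), (0, 1)), [0, 0, 0, 1, 0, 0, 0, 0, 1, 0, 1, 0, 0, 1, 0, 1, 0, 0, 1],
        [0, 1, 0, 1, 0, 0, 0, 0, 1, 0, 0, 1, 0, 0, 0, 1, 0])]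
    (by decide +kernel) fun A hA => ?_⟩
  have hs := M.surj (((Ops.nat 2).ext 1 1).ext (1, 1) (1, 0)) rfl hq (fun i : Fin 16 => ((i.val % 2, i.val / 2 % 2), (i.val / 4 % 2, i.val / 8)))
    (fun a => Fin.ofNat 16 (a.1.1 + 2 * a.1.2 + 4 * a.2.1 + 8 * a.2.2))
    (m := ((1, 0), (0, 0))) (by decide +kernel) (by decide +kernel) (by decide +kernel)
  rw [eq_top_iff]
  intro x _
  obtain ⟨i, rfl⟩ := hs x
  have a1 := hA (((1, 0), (0, 0)), _, _) List.mem_cons_self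
  have a2 := hA (((0, 1), (0, 0)), _, _) (List.mem_cons_of_mem _ List.mem_cons_self)
  have a3 := hA (((0, 0), (1, 0)), _, _) (List.mem_cons_of_mem _ (List.mem_cons_of_mem _ List.mem_cons_self))
  have a4 := hA (((0, 0), (0, 1)), _, _)
    (List.mem_cons_of_mem _ (List.mem_cons_of_mem _ (List.mem_cons_of_mem _ List.mem_cons_self)))
  simp [M, M₀, Mdl.ext, base] at a1 a2 a3 a4 ⊢
  have := add_mem (add_mem (nsmul_mem a1 (i.val % 2)) (nsmul_mem a2 (i.val / 2 % 2)))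
    (add_mem (nsmul_mem a3 (i.val / 4 % 2)) (nsmul_mem a4 (i.val / 8)))
  simp only [nsmul_eq_mul] at this
  convert this using 1
  ring

theorem twoGen_two [CharP F 2] (hq : Fintype.card F = 2) : TwoGen F := by
  refine exists_of_cert (base (F := F) 2) (Ops.nat 2) rfl (m := 1) (g := ((0, 0, 1), (0, 1, 1), (1, 1, 0)))
    (v := ((1, 0, 0), (1, 1, 0), (0, 1, 1))) (cert := [(0, 1, 1, [1, 0, 1, 0, 0, 1]), (0, 2, 1, [0, 0]),
      (1, 0, 1, [0, 1, 1, 0, 1, 0]), (1, 2, 1, [1, 0, 0, 1, 0, 1]), (2, 0, 1, [1, 1]), (2, 1, 1, [0, 1, 0, 1, 1, 0])])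
    (by decide +kernel) fun i j hij A hA => ?_
  have h1 : (1 : F) ∈ A := by
    fin_cases i <;> fin_cases j <;> first | exact absurd rfl hij | (have := hA; simp [base] at this; exact this)
  rw [eq_top_iff]
  intro x _
  haveI : Fact (Nat.Prime 2) := ⟨Nat.prime_two⟩
  obtain ⟨n, rfl⟩ := (ZMod.castHom_bijective F hq : Function.Bijective (ZMod.castHom dvd_rfl F)).2 x
  simpa [ZMod.natCast_val] using nsmul_mem h1 n.val

theorem twoGen_three [CharP F 3] (hq : Fintype.card F = 3) : TwoGen F := by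
  refine exists_of_cert (base (F := F) 3) (Ops.nat 3) rfl (m := 2) (g := ((0, 2, 0), (1, 0, 1), (1, 1, 2)))
    (v := ((0, 1, 2), (2, 1, 0), (0, 2, 2))) (cert := [(0, 1, 1, [1, 1, 0, 1, 0, 0, 1, 0, 1, 0]),
      (0, 2, 1, [0, 1, 1, 0, 1, 0, 0, 1, 0, 1, 1, 0, 1, 0, 0, 1, 0, 1, 1]),
      (1, 0, 1, [0, 0, 1, 0, 1, 0, 0, 1, 1, 0, 1, 0, 1, 1]),
      (1, 2, 1, [1, 1, 0, 0, 1, 1, 0, 1, 1, 0, 0, 1]),
      (2, 0, 1, [1, 1, 0, 1, 1, 0, 1, 0, 1, 1, 0, 0, 1, 1, 0, 1, 0, 1]),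
      (2, 1, 1, [0, 1, 1, 0, 0, 1, 0, 0, 1, 1, 0, 1, 1, 0])])
    (by decide +kernel) fun i j hij A hA => ?_
  have h1 : (1 : F) ∈ A := by
    fin_cases i <;> fin_cases j <;> first | exact absurd rfl hij | (have := hA; simp [base] at this; exact this)
  rw [eq_top_iff]
  intro x _
  haveI : Fact (Nat.Prime 3) := ⟨Nat.prime_three⟩
  obtain ⟨n, rfl⟩ := (ZMod.castHom_bijective F hq : Function.Bijective (ZMod.castHom dvd_rfl F)).2 x
  simpa [ZMod.natCast_val] using nsmul_mem h1 n.val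

theorem twoGen_five [CharP F 5] (hq : Fintype.card F = 5) : TwoGen F := by
  refine exists_of_cert (base (F := F) 5) (Ops.nat 5) rfl (m := 4) (g := ((4, 1, 2), (1, 1, 3), (2, 0, 3)))
    (v := ((1, 4, 3), (1, 1, 3), (1, 1, 1))) (cert := [
      (0, 1, 1, [0, 0, 1, 0, 1, 1, 1, 1, 0, 1, 0, 1, 0, 1, 0, 1, 1, 0, 1, 0, 1]),
      (0, 2, 1, [1, 0, 0, 1, 0, 0, 1, 1, 0, 1, 1, 0, 0, 1, 1, 1, 0, 1, 1]),
      (1, 0, 1, [0, 1, 1, 0, 1, 1, 1, 1, 0, 1, 0, 1, 0, 1, 1, 1, 1, 0, 0]),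
      (1, 2, 1, [0, 1, 1, 0, 0, 1, 1, 1, 0, 0, 1, 0, 1, 0, 0, 1, 0, 1, 0, 1]),
      (2, 0, 1, [0, 0, 1, 1, 0, 0, 1, 1, 1, 1, 0, 0, 1, 1, 0, 1, 0, 0, 0, 1]),
      (2, 1, 1, [0, 0, 1, 1, 0, 0, 1, 1, 0, 0, 1, 0, 1, 1, 1, 0, 1, 0, 1])])
    (by decide +kernel) fun i j hij A hA => ?_
  have h1 : (1 : F) ∈ A := by
    fin_cases i <;> fin_cases j <;> first | exact absurd rfl hij | (have := hA; simp [base] at this; exact this)
  rw [eq_top_iff]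
  intro x _
  haveI : Fact (Nat.Prime 5) := ⟨Nat.prime_five⟩
  obtain ⟨n, rfl⟩ := (ZMod.castHom_bijective F hq : Function.Bijective (ZMod.castHom dvd_rfl F)).2 x
  simpa [ZMod.natCast_val] using nsmul_mem h1 n.val

theorem twoGen_four [CharP F 2] (hq : Fintype.card F = 4) : TwoGen F := by
  obtain ⟨z, hz⟩ := exists_omega (F := F) (by rw [hq])
  let M := (base (F := F) 2).ext 1 1 z (by
    have h2 : ((2 : ℕ) : F) = 0 := CharP.cast_eq_zero F 2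
    simp [base]; linear_combination hz - (1 + z) * h2)
  refine exists_of_cert M ((Ops.nat 2).ext 1 1) rfl (m := (1, 0))
    (g := (((1, 1), (0, 1), (1, 1)), ((0, 0), (0, 1), (1, 0)), ((1, 0), (0, 0), (0, 1))))
    (v := (((1, 0), (0, 1), (0, 0)), ((1, 1), (0, 1), (0, 1)), ((1, 0), (0, 1), (0, 1))))
    (cert := [(0, 1, (1, 0), [1, 1, 1, 0, 0, 1, 0, 0, 0, 1, 1, 0, 1, 1, 1, 0, 0, 1]),
      (0, 1, (0, 1), [1, 1, 0, 1, 1, 0, 0, 1, 0, 0, 1, 0, 1, 0, 1, 0, 0, 1]),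
      (0, 2, (1, 0), [0, 0]),
      (0, 2, (0, 1), [0, 0, 0, 1, 0, 1, 0, 1, 1, 0, 0, 1, 1, 0, 1, 0, 1]),
      (1, 0, (1, 0), [0, 1, 1, 0, 0, 1, 1, 0, 1, 0, 0, 1, 1, 1, 0, 0]),
      (1, 0, (0, 1), [0, 0, 0, 1, 0, 0, 1, 0, 0, 1, 1, 0, 1, 0, 1, 0]),
      (1, 2, (1, 0), [1, 0, 1, 0, 0, 1, 1, 0, 0, 1, 1, 1, 0, 0, 0, 1, 1, 1]),
      (1, 2, (0, 1), [0, 1, 1, 0, 0, 1, 0, 1, 0, 0, 0, 1, 0, 0, 1, 0, 0, 1, 1]),
      (2, 0, (1, 0), [0, 1, 0, 1, 0, 1, 0, 1, 1, 1, 0, 1, 0, 1, 0, 1]),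
      (2, 0, (0, 1), [1, 0, 1, 1, 1, 0, 0, 0, 1, 0, 0, 1, 0, 0, 1, 1, 1]),
      (2, 1, (1, 0), [0, 0, 0, 1, 1, 1, 0, 0, 1, 0, 1, 1, 0, 0, 1, 1]),
      (2, 1, (0, 1), [0, 0, 1, 0, 1, 0, 1, 1, 0, 0, 1, 0, 0, 1, 0, 0])])
    (by decide +kernel) fun i j hij A hA => ?_
  obtain ⟨h1, hz'⟩ : (1 : F) ∈ A ∧ z ∈ A := by
    fin_cases i <;> fin_cases j <;> first | exact absurd rfl hij | (have := hA; simp [M, Mdl.ext, base, Ops.ext, Ops.nat] at this; exact this)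
  refine top_of_mem_one_z (p := 2) (z := z) ?_ A h1 hz'
  have := M.surj ((Ops.nat 2).ext 1 1) rfl hq (fun i : Fin 4 => (i.val % 2, i.val / 2)) (fun a => Fin.ofNat 4 (a.1 + 2 * a.2))
    (m := (1, 0)) (by decide +kernel) (by decide +kernel) (by decide +kernel)
  simpa [M, Mdl.ext, base, Ops.ext, Ops.nat] using this

end Cfsg.Agent.Arith.SL3Gen
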