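import Mathlib
import Cfsg.Agent.Arith.SL3Gen.Frame
import Cfsg.Agent.Linear.Dickson.Main

/-!
Two conjugate regular unipotent elements generating `SL_3(F)`: the plane group is everything, by
Dickson's theorem, when the torus element is large enough.
-/

set_option autoImplicit false
set_option linter.unusedSectionVars false

namespace Cfsg.Agent.Arith.SL3Gen

open Matrix Cfsg.Agent.Linear Cfsg.Agent.Linear.Dickson

variable {F : Type*} [Field F] [Fintype F] {l : F} (h : Good l)

local notation "M2" => Matrix (Fin 2) (Fin 2) F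
local notation "S2" => Matrix.SpecialLinearGroup (Fin 2) F
local notation "P2" => Matrix.ProjectiveSpecialLinearGroup (Fin 2) F

theorem exists_small_pow_altFour (x : alternatingGroup (Fin 4)) : ∃ k ∈ Finset.Icc 1 5, x ^ k = 1 := by
  revert x; decide +kernel

theorem exists_small_pow_permFour (x : Equiv.Perm (Fin 4)) : ∃ k ∈ Finset.Icc 1 5, x ^ k = 1 := by
  revert x; decide +kernel

theorem exists_small_pow_altFive (x : alternatingGroup (Fin 5)) : ∃ k ∈ Finset.Icc 1 5, x ^ k = 1 := by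
  revert x; decide +kernel

theorem pow_five_of_char_two {l : F} (h2 : (2 : F) = 0) (hg : Good l) (e : pP l / l * pS l = 1) :
    l ^ 5 = 1 := by
  obtain ⟨h0, h1, h3, -⟩ := hg
  have e1 : -((1 + l) ^ 3 * (1 + l ^ 2) ^ 3) = (1 - l ^ 3) ^ 3 := by
    simp only [pP, pS] at e
    field_simp at e
    linear_combination e
  have hx : ((1 + l) ^ 3) ^ 3 = (1 + l ^ 3) ^ 3 := by
    have e2 : (1 - l ^ 3) = (1 + l ^ 3) := by linear_combination -(l ^ 3) * h2
    have e3 : (1 + l ^ 2) = (1 + l) ^ 2 := by linear_combination -l * h2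
    rw [e2, e3] at e1
    linear_combination e1 + (1 + l) ^ 9 * h2
  have hne : (1 + l) ^ 3 - (1 + l ^ 3) ≠ 0 := by
    rw [show (1 + l) ^ 3 - (1 + l ^ 3) = l * (1 + l) + (l + l ^ 2) * 2 by ring, h2, mul_zero, add_zero]
    exact mul_ne_zero h0 h3
  have hq : ((1 + l) ^ 3 - (1 + l ^ 3)) *
      (((1 + l) ^ 3) ^ 2 + (1 + l) ^ 3 * (1 + l ^ 3) + (1 + l ^ 3) ^ 2) = 0 := by linear_combination hx
  have hq2 : (1 + l) ^ 2 * (1 + l + l ^ 2 + l ^ 3 + l ^ 4) = 0 := by
    linear_combination (mul_eq_zero.1 hq).resolve_left hne - (1 + l) ^ 2 * (1 + l + 4 * l ^ 2 + l ^ 3 + l ^ 4) * h2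
  linear_combination (l - 1) * (mul_eq_zero.1 hq2).resolve_left (pow_ne_zero _ h3)

/-- matrices which are scalar multiples of scaled matrices over a subfield -/
def scaledSub {K : Type*} [Field K] (ι : K →+* F) (w : Fˣ) : Subgroup S2 where
  carrier := {x | ∃ (c : F) (A : Matrix (Fin 2) (Fin 2) K), (x : M2) = c • scMat ι w A}
  one_mem' := ⟨1, 1, by rw [scMat_one, one_smul]; rfl⟩
  mul_mem' := by
    rintro a b ⟨c, A, ha⟩ ⟨c', A', hb⟩
    exact ⟨c * c', A * A', by rw [Matrix.SpecialLinearGroup.coe_mul, ha, hb, scMat_mul, Matrix.smul_mul,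
      Matrix.mul_smul, smul_smul]⟩
  inv_mem' := by
    rintro a ⟨c, A, ha⟩
    refine ⟨c ^ (orderOf a - 1), A ^ (orderOf a - 1), ?_⟩
    have e : a⁻¹ = a ^ (orderOf a - 1) := by
      rw [inv_eq_iff_mul_eq_one, ← pow_succ', Nat.sub_add_cancel (orderOf_pos a), pow_orderOf_eq_one]
    rw [e, Matrix.SpecialLinearGroup.coe_pow, ha]
    generalize orderOf a - 1 = n
    induction n with
    | zero => simp [scMat_one]
    | succ n ih => rw [pow_succ, ih, pow_succ, pow_succ, scMat_mul, Matrix.smul_mul, Matrix.mul_smul, smul_smul]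

theorem pglSub_le {K : Type*} [Field K] (ι : K →+* F) (w : Fˣ) {lam : Fˣ} {ν : Kˣ}
    (hν : ι (ν : K) = (lam : F) ^ 2) : pglSub ι w lam ≤ (scaledSub ι w).map proj := by
  refine sup_le ?_ (Subgroup.zpowers_le.2 ⟨dSL lam, ⟨(lam : F)⁻¹, !![(ν : K), 0; 0, 1], ?_⟩, rfl⟩)
  · rintro _ ⟨x, rfl⟩
    exact ⟨scHom ι w x, ⟨1, x, by rw [one_smul]; rfl⟩, rfl⟩
  · rw [dSL_coe]
    have := lam.ne_zero
    ext i j; fin_cases i <;> fin_cases j <;> simp [scMat, hν]
    field_simp

theorem tr_sq_mem_range {K : Type*} [Field K] (ι : K →+* F) (w : Fˣ) {g : P2} {y : S2}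
    (hy : proj y ∈ ((scaledSub ι w).map proj).map (MulAut.conj g).toMonoidHom) :
    (y : M2).trace ^ 2 ∈ ι.range := by
  obtain ⟨_, ⟨x, ⟨c, A, hx⟩, rfl⟩, e⟩ := hy
  obtain ⟨g, rfl⟩ := proj_surjective g
  have e' : proj y = proj (g * x * g⁻¹) := by rw [map_mul, map_mul, map_inv]; exact e.symm
  have hdet : c ^ 2 * ι A.det = 1 := by
    have := x.2
    rw [hx, Matrix.det_smul, det_scMat, Fintype.card_fin] at this
    exact this
  have htr : (y : M2).trace ^ 2 = ((g * x * g⁻¹ : S2) : M2).trace ^ 2 := by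
    rcases proj_eq_iff.1 e' with e2 | e2
    · rw [e2]
    · rw [e2]; simp
  have htr2 : (y : M2).trace ^ 2 = c ^ 2 * ι A.trace ^ 2 := by
    rw [htr, Linear.trace_conj, hx, Matrix.trace_smul, smul_eq_mul, mul_pow]
    congr 2
    simp [scMat, Matrix.trace_fin_two]
  have hd0 : ι A.det ≠ 0 := fun e3 => by rw [e3, mul_zero] at hdet; exact zero_ne_one hdet
  refine ⟨A.trace ^ 2 / A.det, ?_⟩
  rw [htr2, map_div₀, map_pow, div_eq_iff hd0]
  linear_combination -(ι A.trace ^ 2) * hdet

theorem pow_card_range {K : Type*} [Field K] [Fintype K] (ι : K →+* F) {z : F} (hz : z ∈ ι.range) :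
    z ^ Fintype.card K = z := by
  obtain ⟨a, rfl⟩ := hz
  rw [← map_pow, FiniteField.pow_card]

theorem pow_of_sum_fixed (p : ℕ) [Fact p.Prime] [CharP F p] {K : Type*} [Field K] [Fintype K] (ι : K →+* F)
    {y : F} (hy : y ≠ 0) (hz : y + 2 + y⁻¹ ∈ ι.range) :
    y ^ (Fintype.card K - 1) = 1 ∨ y ^ (Fintype.card K + 1) = 1 := by
  haveI : CharP K p := (RingHom.charP_iff ι ι.injective p).2 inferInstance
  obtain ⟨e, -, he⟩ := FiniteField.card K p
  have hz' : y + y⁻¹ ∈ ι.range := by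
    have := ι.range.sub_mem hz (show (2 : F) ∈ ι.range from ⟨2, map_ofNat ι 2⟩)
    simpa [add_comm y 2, add_assoc] using this
  have h1 := pow_card_range ι hz'
  rw [he, add_pow_char_pow, ← he, inv_pow] at h1
  set k := Fintype.card K
  have hk : 0 < k := Fintype.card_pos
  have h2 : (y ^ k - y) * (y ^ k * y - 1) = 0 := by
    have hyk : y ^ k ≠ 0 := pow_ne_zero _ hy
    field_simp at h1
    linear_combination h1
  rcases mul_eq_zero.1 h2 with h3 | h3
  · left
    apply mul_right_cancel₀ hy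
    rw [one_mul, ← pow_succ, Nat.sub_add_cancel hk]
    exact sub_eq_zero.1 h3
  · right
    rw [pow_succ]
    exact sub_eq_zero.1 h3

theorem pslSub_eq_top {K : Type*} [Field K] [Fintype K] (ι : K →+* F) (w : Fˣ)
    (hc : Fintype.card K = Fintype.card F) : pslSub ι w = ⊤ := by
  have hb : Function.Surjective ι := ((Fintype.bijective_iff_injective_and_card ι).2 ⟨ι.injective, hc⟩).2
  rw [eq_top_iff]
  intro P _
  obtain ⟨y, rfl⟩ := proj_surjective P
  obtain ⟨a, ha⟩ := hb ((y : M2) 0 0)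
  obtain ⟨b, hb'⟩ := hb ((y : M2) 0 1 / (w : F))
  obtain ⟨c, hc'⟩ := hb ((y : M2) 1 0 * (w : F))
  obtain ⟨d, hd⟩ := hb ((y : M2) 1 1)
  have hs : scMat ι w !![a, b; c, d] = (y : M2) := by
    have := w.ne_zero
    ext i j; fin_cases i <;> fin_cases j <;> simp [scMat, ha, hb', hc', hd] <;> field_simp
  refine ⟨⟨!![a, b; c, d], ι.injective ?_⟩, ?_⟩
  · rw [← det_scMat ι w, hs, y.2, map_one]
  · exact congrArg proj (Subtype.ext hs)

include h in
/-- Dickson: the plane group is everything. -/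
theorem plane_eq_top (p : ℕ) [Fact p.Prime] [CharP F p]
    (h6 : ∀ k ∈ Finset.Icc 1 5, l ^ (6 * k) ≠ 1)
    (hsub : ∀ k : ℕ, 2 ≤ k → k * k ≤ Fintype.card F →
      (∃ m, k ^ m = Fintype.card F) → l ^ (6 * (k - 1)) ≠ 1 ∧ l ^ (6 * (k + 1)) ≠ 1)
    (h5 : l ^ 5 ≠ 1) : Plane h = ⊤ := by
  set τ := tSL h with hτdef
  set W := pP l / l with hWdef
  set M := mSL l W with hMdef
  set H := (Plane h).map proj with hH
  have hτH : proj τ ∈ H := Subgroup.mem_map_of_mem _ (tSL_mem h)
  have hMH : proj M ∈ H := Subgroup.mem_map_of_mem _ (mSL_mem h)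
  have hW : W ≠ 0 := div_ne_zero (pP_ne h) h.ne0
  have hS := pS_ne h
  have hρ : (l ^ 3 : F) ≠ 0 := pow_ne_zero _ h.ne0
  have hτc : (τ : M2) = !![l ^ 3, 0; 0, (l ^ 3)⁻¹] := by
    rw [hτdef, tSL, dSL_coe]
    simp
  have hMc : (M : M2) = !![1 - W * pS l, W; -(W * pS l ^ 2), 1 + W * pS l] := rfl
  have hτk : ∀ k, proj τ ^ k = 1 → l ^ (6 * k) = 1 := by
    intro k hk
    have hd : ∀ n : ℕ, ((τ ^ n : S2) : M2) = !![(l ^ 3) ^ n, 0; 0, ((l ^ 3)⁻¹) ^ n] := by
      intro n
      induction n with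
      | zero => simp [Matrix.one_fin_two]
      | succ n ih =>
        rw [pow_succ, Matrix.SpecialLinearGroup.coe_mul, ih, hτc]
        ext i j; fin_cases i <;> fin_cases j <;> simp [pow_succ]
    rw [← map_pow, proj_eq_one_iff, hd] at hk
    have e := hk.2.2
    simp at e
    rw [← one_div, eq_div_iff (pow_ne_zero _ (pow_ne_zero _ h.ne0))] at e
    calc l ^ (6 * k) = (l ^ 3) ^ k * (l ^ 3) ^ k := by rw [← pow_mul, ← pow_add]; ring_nf
      _ = 1 := e
  have hl12 : l ^ 12 ≠ 1 := h6 2 (by simp)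
  have hl6 : l ^ 6 ≠ 1 := h6 1 (by simp)
  have hτ4 : proj τ * proj τ ≠ 1 := fun e => hl12 (by simpa using hτk 2 (by rw [pow_two]; exact e))
  have hMuni : IsUni (proj M) := isUni_proj.2 (by rw [hMc]; simp [Matrix.trace_fin_two]; ring)
  have hM1 : proj M ≠ 1 := fun e => hW (by simpa [hMc] using (proj_eq_one_iff.1 e).1)
  have hMord : orderOf (proj M) = p :=
    orderOf_eq_prime (pow_char_eq_one_of_isUni p hMuni) hM1
  have hsmall : ∀ {G : Type} [Group G] (_ : ∀ x : G, ∃ k ∈ Finset.Icc 1 5, x ^ k = 1), H ≃* G → False := by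
    intro G _ hG e
    obtain ⟨k, hk, hk1⟩ := hG (e ⟨proj τ, hτH⟩)
    refine h6 k hk (hτk k ?_)
    have := congrArg e.symm hk1
    rw [map_pow, e.symm_apply_apply, map_one] at this
    exact congrArg Subtype.val this
  have hfin : H = ⊤ := by
    rcases shape p H with ⟨g, hg⟩ | ⟨a, ha, hN⟩ | ⟨⟨e⟩⟩ | ⟨⟨e⟩⟩ | ⟨⟨e⟩⟩ | ⟨K, iK, iK', ι, g, w, hK⟩
    · exfalso
      obtain ⟨c, rfl⟩ := proj_surjective g
      have key : ∀ x : S2, proj x ∈ H → ∃ μ : F,
          (c : M2) 1 0 * (x : M2) 0 0 + (c : M2) 1 1 * (x : M2) 1 0 = μ * (c : M2) 1 0 ∧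
          (c : M2) 1 0 * (x : M2) 0 1 + (c : M2) 1 1 * (x : M2) 1 1 = μ * (c : M2) 1 1 := by
        intro x hx
        have hb := hg _ hx
        rw [← map_inv, ← map_mul, ← map_mul, mem_borel_proj] at hb
        have e : (c : M2) * (x : M2) = ((c * x * c⁻¹ : S2) : M2) * (c : M2) := by
          rw [← Matrix.SpecialLinearGroup.coe_mul, ← Matrix.SpecialLinearGroup.coe_mul, inv_mul_cancel_right]
        refine ⟨((c * x * c⁻¹ : S2) : M2) 1 1, ?_, ?_⟩
        all_goals generalize ((c * x * c⁻¹ : S2) : M2) = z at hb e ⊢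
        · have := congrFun (congrFun e 1) 0
          simpa [mul_two_apply, hb] using this
        · have := congrFun (congrFun e 1) 1
          simpa [mul_two_apply, hb] using this
      obtain ⟨μ, hμ1, hμ2⟩ := key τ hτH
      obtain ⟨η, hη1, hη2⟩ := key M hMH
      simp [hτc] at hμ1 hμ2
      simp [hMc] at hη1 hη2
      have hd := SL_det_two c
      by_cases c0 : (c : M2) 1 0 = 0
      · have c1 : (c : M2) 1 1 ≠ 0 := fun e => by rw [c0, e] at hd; simp at hd
        rw [c0] at hη1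
        simp [c1, hW, hS] at hη1
      by_cases c1 : (c : M2) 1 1 = 0
      · rw [c1] at hη2
        simp [c0, hW] at hη2
      have r1 : μ = l ^ 3 := mul_right_cancel₀ c0 (by linear_combination -hμ1)
      have r2 : μ = (l ^ 3)⁻¹ := mul_right_cancel₀ c1 (by linear_combination -hμ2)
      rw [r1, eq_comm, inv_eq_iff_eq_inv, ← mul_eq_one_iff_eq_inv₀ hρ] at r2
      exact hl6 (by linear_combination r2)
    · exfalso
      have hn : ∀ x ∈ H, ∀ y, y ∈ cen a ↔ x * y * x⁻¹ ∈ cen a := fun x hx =>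
        Subgroup.mem_normalizer_iff.1 (hN hx)
      rcases normalizer_cases ha (hn _ hMH) with hm | ⟨hm2, hinv⟩
      · have := Subgroup.orderOf_dvd_natCard (cen a) hm
        rw [hMord] at this
        exact coprime_card_cen p ha this
      rcases normalizer_cases ha (hn _ hτH) with ht | ⟨ht2, -⟩
      swap
      · exact hτ4 ht2
      have hi := hinv _ ht
      rw [← map_inv, ← map_inv, ← map_mul, ← map_mul, proj_eq_iff] at hi
      have hq : ∀ s : F, s * s = 1 → (M : M2) * (τ : M2) = s • ((τ⁻¹ : S2) : M2) * (M : M2) → False := by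
        intro s hs e
        have hti : ((τ⁻¹ : S2) : M2) = !![(l ^ 3)⁻¹, 0; 0, l ^ 3] := by
          obtain ⟨i00, i11, i01, i10⟩ := SL_inv_entries τ
          ext i j; fin_cases i <;> fin_cases j <;> simp [i00, i11, i01, i10, hτc]
        have e00 := congrFun (congrFun e 0) 0
        have e11 := congrFun (congrFun e 1) 1
        simp [mul_two_apply, hMc, hτc, hti] at e00 e11
        have hne : l ^ 3 - s * (l ^ 3)⁻¹ ≠ 0 := by
          intro e0
          rw [sub_eq_zero, eq_mul_inv_iff_mul_eq₀ hρ] at e0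
          refine hl12 ?_
          calc l ^ 12 = (l ^ 3 * l ^ 3) * (l ^ 3 * l ^ 3) := by ring
            _ = 1 := by rw [e0, hs]
        have hne' : (l ^ 3)⁻¹ - s * l ^ 3 ≠ 0 := by
          intro e0
          refine hne ?_
          linear_combination -s * e0 - l ^ 3 * hs
        have a0 : 1 - W * pS l = 0 :=
          (mul_eq_zero.1 (show (1 - W * pS l) * (l ^ 3 - s * (l ^ 3)⁻¹) = 0 by linear_combination e00)).resolve_right hne
        have a1 : 1 + W * pS l = 0 :=
          (mul_eq_zero.1 (show (1 + W * pS l) * ((l ^ 3)⁻¹ - s * l ^ 3) = 0 by linear_combination e11)).resolve_right hne'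
        exact h5 (pow_five_of_char_two (by linear_combination a0 + a1) h (by linear_combination -a0))
      rcases hi with e | e
      · refine hq 1 (one_mul 1) ?_
        rw [one_smul, ← Matrix.SpecialLinearGroup.coe_mul, ← Matrix.SpecialLinearGroup.coe_mul]
        exact congrArg Subtype.val (by rw [e, inv_mul_cancel_right])
      · refine hq (-1) (by ring) ?_
        rw [neg_one_smul, neg_mul, ← Matrix.SpecialLinearGroup.coe_mul, ← Matrix.SpecialLinearGroup.coe_mul,
          ← Matrix.SpecialLinearGroup.coe_neg]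
        refine congrArg Subtype.val ?_
        rw [← neg_mul, e, neg_neg, inv_mul_cancel_right]
    · exact (hsmall exists_small_pow_altFour e).elim
    · exact (hsmall exists_small_pow_permFour e).elim
    · exact (hsmall exists_small_pow_altFive e).elim
    · obtain ⟨m, hm1, hm⟩ := IsSubfield.exists_pow_eq (F := F) rfl ι
      by_cases hc : Fintype.card K = Fintype.card F
      · have htop : ∀ {S : Subgroup P2}, pslSub ι w ≤ S → S.map (MulAut.conj g).toMonoidHom = ⊤ := fun {S} hS => by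
          rw [pslSub_eq_top ι w hc, top_le_iff] at hS
          rw [hS]
          exact Subgroup.map_top_of_surjective _ (MulAut.conj g).surjective
        rcases hK with hK | ⟨lam, ν, -, -, hK⟩
        · rw [hK]; exact htop le_rfl
        · rw [hK]; exact htop (pslSub_le_pglSub ι w lam)
      exfalso
      have hle : H ≤ ((scaledSub ι w).map proj).map (MulAut.conj g).toMonoidHom := by
        rcases hK with hK | ⟨lam, ν, h1, -, hK⟩ <;> rw [hK] <;> refine Subgroup.map_mono ?_
        · rintro _ ⟨x, rfl⟩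
          exact ⟨scHom ι w x, ⟨1, x, by rw [one_smul]; rfl⟩, rfl⟩
        · exact pglSub_le ι w h1
      have hz := tr_sq_mem_range ι w (hle hτH)
      have hz' : l ^ 6 + 2 + (l ^ 6)⁻¹ ∈ ι.range := by
        convert hz using 1
        rw [hτc, Matrix.trace_fin_two]
        have := h.ne0
        simp
        field_simp
        ring
      have hk2 : 2 ≤ Fintype.card K := Fintype.one_lt_card
      have hm2 : 2 ≤ m := by
        by_contra hlt
        rw [show m = 1 by omega, pow_one] at hm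
        exact hc hm
      obtain ⟨hs1, hs2⟩ := hsub _ hk2 (by
        rw [← hm, ← pow_two]; exact Nat.pow_le_pow_right (by omega) hm2) ⟨m, hm⟩
      rcases pow_of_sum_fixed p ι (pow_ne_zero 6 h.ne0) hz' with e | e <;> rw [← pow_mul] at e
      · exact hs1 e
      · exact hs2 e
  rw [eq_top_iff]
  intro y _
  obtain ⟨x, hx, e⟩ : proj y ∈ H := hfin ▸ Subgroup.mem_top _
  rcases proj_eq_iff.1 e with rfl | rfl
  · exact hx
  · exact plane_neg h hx

end Cfsg.Agent.Arith.SL3Gen
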