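import Mathlib
import Cfsg.Agent.Arith.SL3Gen.Torus
import Cfsg.Agent.Arith.SL3Gen.Small

/-!
`SL_3(F)` is generated by two conjugate regular unipotent elements, for every finite field `F`.
-/

set_option autoImplicit false

namespace Cfsg.Agent.Arith.SL3Gen

open Matrix

variable {F : Type*} [Field F] [Fintype F]

theorem good_of_generator {g : F} (hg : g ≠ 0) (ho : ∀ n : ℕ, g ^ n = 1 → Fintype.card F - 1 ∣ n)
    (hq : 6 ≤ Fintype.card F) : Good g := by
  have hn : ∀ n : ℕ, 0 < n → n < Fintype.card F - 1 → g ^ n ≠ 1 := fun n h0 hlt e => by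
    have := Nat.le_of_dvd h0 (ho n e); omega
  exact ⟨hg, fun e => hn 3 (by omega) (by omega) (by linear_combination -e),
    fun e => hn 2 (by omega) (by omega) (by linear_combination (g - 1) * e),
    fun e => hn 4 (by omega) (by omega) (by linear_combination (g ^ 2 - 1) * e)⟩

theorem exists_two_generators : TwoGen F := by
  obtain ⟨p, hchar⟩ := CharP.exists F
  obtain ⟨f, hp, hf⟩ := FiniteField.card F p
  haveI := Fact.mk hp
  have small : (∃ (l : F) (h : Good l), Gen h = ⊤) → TwoGen F := fun ⟨l, h, ht⟩ => exists_of_top h ht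
  by_cases hprime : (Fintype.card F).Prime
  · have hpq : Fintype.card F = p := by
      rw [hf] at hprime ⊢
      rw [(Nat.Prime.pow_eq_iff hprime).1 rfl |>.2, pow_one]
    by_cases h5 : p ≤ 5
    · have h2 := hp.two_le
      interval_cases p
      · exact twoGen_two hpq
      · exact twoGen_three hpq
      · exact absurd hp (by norm_num)
      · exact twoGen_five hpq
    have hc : ∀ (n : ℕ), n < p → n ≠ 0 → (n : F) ≠ 0 := fun n hn hn0 e =>
      hn0 (Nat.eq_zero_of_dvd_of_lt ((CharP.cast_eq_zero_iff F p n).1 e) hn)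
    by_cases h7 : p = 7
    · subst h7
      have h7' : (7 : F) = 0 := by exact_mod_cast CharP.cast_eq_zero F 7
      refine small ⟨3, ⟨?_, ?_, ?_, ?_⟩, top_of_prime _ hprime⟩
      · exact_mod_cast hc 3 (by omega) (by omega)
      · intro e; exact hc 2 (by omega) (by omega) (by push_cast; linear_combination e + 4 * h7')
      · intro e; exact hc 4 (by omega) (by omega) (by push_cast; linear_combination e)
      · intro e; exact hc 3 (by omega) (by omega) (by push_cast; linear_combination e - h7')
    have hp11 : 11 ≤ p := by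
      by_contra hlt
      have h6 : 5 < p := by omega
      interval_cases p <;> revert hp <;> norm_num at *
    refine small ⟨2, ⟨?_, ?_, ?_, ?_⟩, top_of_prime _ hprime⟩
    · exact_mod_cast hc 2 (by omega) (by omega)
    · intro e; exact hc 7 (by omega) (by omega) (by push_cast; linear_combination -e)
    · intro e; exact hc 3 (by omega) (by omega) (by push_cast; linear_combination e)
    · intro e; exact hc 5 (by omega) (by omega) (by push_cast; linear_combination e)
  have hf2 : 2 ≤ (f : ℕ) := by
    by_contra hlt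
    have : (f : ℕ) = 1 := by have := f.pos; omega
    rw [hf, this, pow_one] at hprime
    exact hprime hp
  have hplane : (∃ (l : F) (h : Good l), Plane h = ⊤) → TwoGen F := fun ⟨l, h, ht⟩ =>
    exists_of_top h (top_of_plane h (by
      rw [hf]
      calc 4 = 2 ^ 2 := rfl
        _ ≤ p ^ 2 := Nat.pow_le_pow_left hp.two_le 2
        _ ≤ p ^ (f : ℕ) := Nat.pow_le_pow_right hp.pos hf2) ht)
  have hsmall : Fintype.card F < 64 →
      (p = 2 ∧ Fintype.card F = 4) ∨ (p = 2 ∧ Fintype.card F = 8) ∨ (p = 2 ∧ Fintype.card F = 16) ∨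
      (p = 2 ∧ Fintype.card F = 32) ∨ (p = 3 ∧ Fintype.card F = 9) ∨ (p = 3 ∧ Fintype.card F = 27) ∨
      (p = 5 ∧ Fintype.card F = 25) ∨ (p = 7 ∧ Fintype.card F = 49) := by
    intro hlt
    rw [hf] at hlt ⊢
    have h1 : p < 8 := by
      by_contra h8
      have : 8 ^ 2 ≤ p ^ (f : ℕ) := (Nat.pow_le_pow_left (by omega) 2).trans (Nat.pow_le_pow_right hp.pos hf2)
      omega
    have h2 : (f : ℕ) < 6 := by
      by_contra h6
      have : 2 ^ 6 ≤ p ^ (f : ℕ) := (Nat.pow_le_pow_left hp.two_le 6).trans (Nat.pow_le_pow_right hp.pos (by omega))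
      omega
    have h3 := hp.two_le
    generalize (f : ℕ) = e at hlt hf2 h2 ⊢
    interval_cases p <;> interval_cases e <;> revert hp hlt <;> norm_num
  obtain ⟨g, hg, ho⟩ := exists_generator (F := F)
  have dickson : (8 ≤ Fintype.card F) → (∀ k ∈ Finset.Icc 1 5, ¬ Fintype.card F - 1 ∣ 6 * k) →
      (∀ k : ℕ, 2 ≤ k → k * k ≤ Fintype.card F → (∃ m, k ^ m = Fintype.card F) →
        ¬ Fintype.card F - 1 ∣ 6 * (k - 1) ∧ ¬ Fintype.card F - 1 ∣ 6 * (k + 1)) → TwoGen F := by
    intro h8 ha hb
    refine hplane ⟨g, good_of_generator hg ho (by omega), plane_eq_top _ p (fun k hk e => ha k hk (ho _ e))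
      (fun k h1 h2 h3 => ⟨fun e => (hb k h1 h2 h3).1 (ho _ e), fun e => (hb k h1 h2 h3).2 (ho _ e)⟩) fun e => ?_⟩
    have := Nat.le_of_dvd (by omega) (ho 5 e)
    omega
  by_cases hbig : Fintype.card F < 64
  · rcases hsmall hbig with ⟨rfl, e⟩ | ⟨rfl, e⟩ | ⟨rfl, e⟩ | ⟨rfl, e⟩ | ⟨rfl, e⟩ | ⟨rfl, e⟩ | ⟨rfl, e⟩ | ⟨rfl, e⟩
    · exact twoGen_four e
    · refine dickson (by omega) (by rw [e]; decide) ?_
      rw [e]; intro k h1 h2 _
      have : k ≤ 2 := by nlinarith
      interval_cases k; decide
    · exact hplane (plane_sixteen e)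
    · refine dickson (by omega) (by rw [e]; decide) ?_
      rw [e]; rintro k h1 h2 ⟨m, hm⟩
      have : k ≤ 5 := by nlinarith
      have hk : k ∣ 32 := by
        rcases Nat.eq_zero_or_pos m with rfl | hm0
        · simp at hm
        · exact hm ▸ dvd_pow_self k hm0.ne'
      interval_cases k <;> revert hk <;> decide
    · exact hplane (plane_nine e)
    · refine dickson (by omega) (by rw [e]; decide) ?_
      rw [e]; intro k h1 h2 _
      have : k ≤ 5 := by nlinarith
      interval_cases k <;> decide
    · exact hplane (plane_twentyFive e)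
    · exact hplane (plane_fortyNine e)
  refine dickson (by omega) (fun k hk hd => ?_) fun k h1 h2 _ => ?_
  · rw [Finset.mem_Icc] at hk
    have := Nat.le_of_dvd (by omega) hd
    omega
  · have hlt : 6 * (k + 1) < Fintype.card F - 1 := by
      by_cases h8 : k < 8
      · omega
      · have : 8 * k ≤ k * k := Nat.mul_le_mul_right k (by omega)
        omega
    exact ⟨fun hd => by have := Nat.le_of_dvd (by omega) hd; omega,
      fun hd => by have := Nat.le_of_dvd (by omega) hd; omega⟩

end Cfsg.Agent.Arith.SL3Gen
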